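import Mathlib
import Cfsg.Agent.Lib.MinDeg.Rep
import Cfsg.Agent.Lib.Stein.Lift

/-!
# Eigenspaces of additive one-parameter families over a finite field
-/

set_option autoImplicit false

namespace CfsgLib.MinDeg

open Module CfsgLib.Stein

variable {G V : Type*} [Group G] [AddCommGroup V] [Module ℂ V] {F : Type*} [Field F]

/-- the vectors on which `z t` acts by `ψ (l t)` -/
def eg (ρ : Representation ℂ G V) (ψ : AddChar F ℂ) (z : F → G) (l : F) : Submodule ℂ V where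
  carrier := {v | ∀ t, ρ (z t) v = ψ (l * t) • v}
  add_mem' := (ex ρ z (ψ.mulShift l)).add_mem
  zero_mem' := (ex ρ z (ψ.mulShift l)).zero_mem
  smul_mem' c _ := (ex ρ z (ψ.mulShift l)).smul_mem c

/-- the projection onto an eigenspace, up to a scalar -/
noncomputable def pr [Fintype F] (ρ : Representation ℂ G V) (ψ : AddChar F ℂ) (z : F → G) (l : F) : V →ₗ[ℂ] V :=
  ∑ t, ψ (-(l * t)) • ρ (z t)

variable {ρ : Representation ℂ G V} {ψ : AddChar F ℂ} {z z' : F → G} {l : F} {v : V} {g : G}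

theorem mem_eg : v ∈ eg ρ ψ z l ↔ ∀ t, ρ (z t) v = ψ (l * t) • v := Iff.rfl

theorem mem_eg_zero : v ∈ eg ρ ψ z 0 ↔ ∀ t, ρ (z t) v = v := by simp [mem_eg]

theorem eg_zero : eg ρ ψ z 0 = fx ρ (Set.range z) := by ext v; simp [mem_eg_zero, mem_fx]

theorem apply_mul (a b : G) (v : V) : ρ (a * b) v = ρ a (ρ b v) := by rw [map_mul]; rfl

theorem apply_ne_zero (g : G) (hv : v ≠ 0) : ρ g v ≠ 0 := fun e => hv (by rw [← inv_apply_apply g v, e, map_zero])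

theorem apply_mem_eg {δ : F} (hv : v ∈ eg ρ ψ z l) (h : ∀ t, ρ (cm (z t) g) v = ψ (δ * t) • v) :
    ρ g v ∈ eg ρ ψ z (l + δ) := fun t => by
  rw [← apply_mul, show z t * g = g * z t * cm (z t) g by unfold cm; group, apply_mul, apply_mul, h, map_smul, hv,
    map_smul, map_smul, smul_smul, add_mul, AddChar.map_add_eq_mul, mul_comm]

theorem apply_mem_eg' (hv : v ∈ eg ρ ψ z l) (h : ∀ t, ρ (cm (z t) g) v = v) : ρ g v ∈ eg ρ ψ z l := by
  simpa using apply_mem_eg (δ := 0) hv (by simpa using h)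

theorem apply_mem_eg_of_conj {c : F} (h : ∀ t, g * z t * g⁻¹ = z' (c * t)) (hc : c ≠ 0)
    (hv : v ∈ eg ρ ψ z (l * c)) : ρ g v ∈ eg ρ ψ z' l := fun t => by
  rw [← mul_inv_cancel_left₀ hc t, ← h, ← apply_mul, inv_mul_cancel_right, apply_mul, hv, map_smul, mul_assoc]

theorem eq_zero_of_forall (hψ : ψ.IsPrimitive) {c : F} (h : ∀ t, ψ (c * t) = 1) : c = 0 :=
  by_contra fun hc => hψ hc (AddChar.ext _ _ h)

theorem eq_of_mem_eg (hψ : ψ.IsPrimitive) {l' : F} (h : v ∈ eg ρ ψ z l) (h' : v ∈ eg ρ ψ z l') (hv : v ≠ 0) :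
    l = l' := sub_eq_zero.1 (eq_zero_of_forall hψ fun t => by
  have := smul_left_injective ℂ hv ((h t).symm.trans (h' t))
  rw [sub_mul, AddChar.map_sub_eq_div, this, div_self (AddChar.val_isUnit ψ _).ne_zero])

/-- a vector spanning a stable line is fixed -/
theorem mem_eg_of_line (hz : ∀ s t, z (s + t) = z s * z t) {c : F} (hc : c ≠ 1)
    (h : ∀ t, g * z t * g⁻¹ = z (c * t)) (h1 : g ∈ stab ρ (ℂ ∙ v)) (h2 : ∀ t, z t ∈ stab ρ (ℂ ∙ v)) :
    v ∈ eg ρ ψ z 0 := mem_eg_zero.2 fun t => by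
  obtain ⟨s, rfl⟩ : ∃ s, t = c * s - s := ⟨t / (c - 1), by have := sub_ne_zero.2 hc; field_simp⟩
  have := comm_mem_fixer (inv_mem h1) (inv_mem (h2 s))
  rwa [inv_inv, inv_inv, h, show (z s)⁻¹ = z (-s) from ((addHom hz).map_inv (.ofAdd s)).symm, ← hz,
    ← sub_eq_add_neg] at this

variable [Fintype F]

theorem pr_apply : pr ρ ψ z l v = ∑ t, ψ (-(l * t)) • ρ (z t) v := by simp [pr]

theorem pr_mem {W : Submodule ℂ V} (h : ∀ t, ρ (z t) v ∈ W) : pr ρ ψ z l v ∈ W :=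
  by rw [pr_apply]; exact W.sum_mem fun t _ => W.smul_mem _ (h t)

theorem pr_apply_z (hz : ∀ s t, z (s + t) = z s * z t) (s : F) :
    pr ρ ψ z l (ρ (z s) v) = ψ (l * s) • pr ρ ψ z l v := by
  rw [pr_apply, pr_apply, Finset.smul_sum, ← Equiv.sum_comp (Equiv.subRight s)]
  refine Finset.sum_congr rfl fun t _ => ?_
  rw [Equiv.subRight_apply, ← apply_mul, ← hz, smul_smul, ← AddChar.map_add_eq_mul, sub_add_cancel, mul_sub,
    neg_sub, sub_eq_add_neg]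

theorem pr_comm (h : ∀ t, ρ g (ρ (z t) v) = ρ (z t) (ρ g v)) : ρ g (pr ρ ψ z l v) = pr ρ ψ z l (ρ g v) := by
  simp only [pr_apply, map_sum, map_smul, h]

theorem pr_mem_eg (hz : ∀ s t, z (s + t) = z s * z t) : pr ρ ψ z l v ∈ eg ρ ψ z l := fun s => by
  rw [← pr_apply_z hz, pr_comm fun t => by rw [← apply_mul, ← apply_mul, ← hz, ← hz, add_comm]]

theorem pr_of_mem (h : v ∈ eg ρ ψ z l) : pr ρ ψ z l v = (Fintype.card F : ℂ) • v := by
  simp [pr_apply, h _, smul_smul, ← AddChar.map_add_eq_mul, Nat.cast_smul_eq_nsmul]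

theorem apply_pr_of_conj {c : F} (h : ∀ t, g * z t * g⁻¹ = z' (c * t)) (hc : c ≠ 0) :
    ρ g (pr ρ ψ z (l * c) v) = pr ρ ψ z' l (ρ g v) := by
  rw [pr_apply, pr_apply, map_sum, ← Equiv.sum_comp (Equiv.mulLeft₀ c hc) fun t => _ • ρ (z' t) _]
  refine Finset.sum_congr rfl fun t _ => ?_
  rw [Equiv.mulLeft₀_apply, ← h, ← apply_mul, inv_mul_cancel_right, apply_mul, map_smul, mul_assoc]

theorem map_pr (hψ : ψ.IsPrimitive) (hz : ∀ s t, z (s + t) = z s * z t) [DecidableEq F] (L : V →ₗ[ℂ] V) {y : V}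
    (h : ∀ t, t ≠ 0 → L (ρ (z t) v) = y) :
    L (pr ρ ψ z l v) = L v + ((if l = 0 then Fintype.card F else 0 : ℕ) - 1 : ℂ) • y := by
  have z0 : z 0 = 1 := (addHom hz).map_one
  have h1 := AddChar.sum_mulShift (-l) hψ
  rw [← Finset.add_sum_erase _ _ (Finset.mem_univ 0)] at h1
  rw [pr_apply, map_sum, ← Finset.add_sum_erase _ _ (Finset.mem_univ 0), Finset.sum_congr rfl fun t ht => by
    rw [map_smul, h t (Finset.mem_erase.1 ht).1], ← Finset.sum_smul]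
  simp only [neg_eq_zero, mul_neg, mul_comm _ l] at h1
  simp only [← h1]
  simp [z0]

/-- the rank one computation on a line -/
theorem sl2 (hψ : ψ.IsPrimitive) {C : Submodule ℂ V} [FiniteDimensional ℂ V] (hC : finrank ℂ C ≤ 1)
    (hz : ∀ s t, z (s + t) = z s * z t) (hz' : ∀ s t, z' (s + t) = z' s * z' t) (h0 : C ≤ eg ρ ψ z 0)
    (h1 : ∀ v ∈ C, pr ρ ψ z 0 (ρ (z' 1) v) ∈ C)
    (hT : ∀ c, c ≠ 0 → ∃ g ∈ stab ρ C, (∃ c', c' ≠ 0 ∧ ∀ t, g * z t * g⁻¹ = z (c' * t)) ∧ g * z' 1 * g⁻¹ = z' c)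
    (hn : ∃ l, l ≠ 0 ∧ ∀ t, z 1 * z' (-1) * z 1 * z t * (z 1 * z' (-1) * z 1)⁻¹ = z' (l * t)) :
    ∃ β : ℂ, (∀ u, u ≠ 0 → ∀ v ∈ C, pr ρ ψ z 0 (ρ (z' u) v) = β • v) ∧
      (C = ⊥ ∨ β = Fintype.card F ∨ β = -1) := by
  classical
  obtain h | h : finrank ℂ C = 0 ∨ finrank ℂ C = 1 := by omega
  · rw [Submodule.finrank_eq_zero] at h
    exact ⟨0, by simp [h], Or.inl h⟩
  obtain ⟨w, hw, rfl⟩ := exists_span_of_finrank_eq_one h
  have w0 := Submodule.mem_span_singleton_self (R := ℂ) w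
  obtain ⟨β, hβ⟩ := Submodule.mem_span_singleton.1 (h1 w w0)
  have key : ∀ u, u ≠ 0 → pr ρ ψ z 0 (ρ (z' u) w) = β • w := fun u hu => by
    obtain ⟨g, hg, ⟨c, hc, e⟩, e'⟩ := hT u hu
    obtain ⟨d, hd⟩ := exists_smul_of_mem_stab (inv_mem hg)
    rw [← e', apply_mul, apply_mul, ← apply_pr_of_conj e hc, zero_mul, hd, map_smul, map_smul, ← hβ, smul_comm,
      ← hd, map_smul, apply_inv_apply]
  refine ⟨β, fun u hu v hv => ?_, Or.inr ?_⟩
  · obtain ⟨c, rfl⟩ := Submodule.mem_span_singleton.1 hv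
    rw [map_smul, map_smul, key u hu, smul_comm]
  obtain ⟨l, hl, e⟩ := hn
  have f := mem_eg_zero.1 (h0 w0)
  have i1 : (z 1)⁻¹ = z (-1) := ((addHom hz).map_inv (.ofAdd 1)).symm
  have i2 : (z' (-1))⁻¹ = z' 1 := ((addHom hz').map_inv (.ofAdd (-1))).symm.trans (congrArg z' (neg_neg 1))
  have h2 := apply_pr_of_conj (ρ := ρ) (ψ := ψ) (l := 0) (v := ρ (z 1 * z' (-1) * z 1)⁻¹ w) e hl
  rw [apply_inv_apply, zero_mul, mul_inv_rev, mul_inv_rev, i1, i2, apply_mul, apply_mul, apply_mul, apply_mul, f,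
    pr_apply_z hz, key 1 one_ne_zero, zero_mul, AddChar.map_zero_eq_one, one_smul, map_smul, map_smul, map_smul, f] at h2
  have h3 := map_pr (l := 0) hψ hz' _ key
  rw [← h2, map_smul, pr_apply_z hz, key _ (by simp), pr_of_mem (h0 w0), zero_mul, AddChar.map_zero_eq_one, one_smul,
    smul_smul, smul_smul, ← add_smul, if_pos rfl] at h3
  have h4 : (β - Fintype.card F) * (β + 1) = 0 := by linear_combination smul_left_injective ℂ hw h3
  exact (mul_eq_zero.1 h4).imp sub_eq_zero.1 eq_neg_of_add_eq_zero_left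

variable [FiniteDimensional ℂ V] (hψ : ψ.IsPrimitive) (hz : ∀ s t, z (s + t) = z s * z t) {W : Submodule ℂ V}
  (hW : ∀ t, z t ∈ stab ρ W)
include hψ hz hW

theorem finrank_eq_sum : finrank ℂ W = ∑ l, finrank ℂ ↥(W ⊓ eg ρ ψ z l) := by
  classical
  have hz' : ∀ s t, (⟨z (s + t), hW _⟩ : stab ρ W) = ⟨z s, hW s⟩ * ⟨z t, hW t⟩ := fun s t => Subtype.ext (hz s t)
  have h1 : ∀ l, (Fintype.card F : ℂ) * finrank ℂ ↥(W ⊓ eg ρ ψ z l) =
      ∑ t, ψ (l * -t) * (res ρ W).character ⟨z t, hW t⟩ := fun l => by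
    rw [← finrank_comap, ← show ex (res ρ W) (fun t => ⟨z t, hW t⟩) (ψ.mulShift l) = (eg ρ ψ z l).comap _ from
      Submodule.ext fun v => ⟨fun h t => congrArg Subtype.val (h t), fun h t => Subtype.ext (h t)⟩]
    exact card_mul_ex hz' _
  have h2 : (Fintype.card F : ℂ) * (∑ l, finrank ℂ ↥(W ⊓ eg ρ ψ z l) : ℕ) = Fintype.card F * finrank ℂ W := by
    rw [Nat.cast_sum, Finset.mul_sum, Finset.sum_congr rfl fun l _ => h1 l, Finset.sum_comm]
    simp only [← Finset.sum_mul, AddChar.sum_mulShift _ hψ, neg_eq_zero, Nat.cast_ite, ite_mul, Nat.cast_zero,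
      zero_mul, Finset.sum_ite_eq', Finset.mem_univ, if_true]
    rw [show (⟨z 0, hW 0⟩ : stab ρ W) = 1 from Subtype.ext (addHom hz).map_one, Representation.char_one]
  exact_mod_cast (mul_left_cancel₀ (Nat.cast_ne_zero.2 Fintype.card_ne_zero) h2).symm

theorem finrank_shift (h : ∀ δ, ∃ g, ∀ l, ∀ v ∈ W ⊓ eg ρ ψ z l, ρ g v ∈ W ⊓ eg ρ ψ z (l + δ)) :
    finrank ℂ W = Fintype.card F * finrank ℂ ↥(W ⊓ eg ρ ψ z 0) := by
  have h1 : ∀ l l', finrank ℂ ↥(W ⊓ eg ρ ψ z l) ≤ finrank ℂ ↥(W ⊓ eg ρ ψ z l') := fun l l' => by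
    obtain ⟨g, hg⟩ := h (l' - l)
    exact finrank_le_of_apply g (by simpa only [add_sub_cancel] using hg l)
  rw [finrank_eq_sum hψ hz hW, Finset.sum_congr rfl fun l _ => le_antisymm (h1 l 0) (h1 0 l)]
  simp

theorem finrank_eigen (h : ∀ c, c ≠ 0 → ∃ g ∈ stab ρ W, ∀ t, g * z t * g⁻¹ = z (c * t)) :
    finrank ℂ W = finrank ℂ ↥(W ⊓ eg ρ ψ z 0) + (Fintype.card F - 1) * finrank ℂ ↥(W ⊓ eg ρ ψ z 1) := by
  classical
  have h1 : ∀ l l', l ≠ 0 → l' ≠ 0 → finrank ℂ ↥(W ⊓ eg ρ ψ z l) ≤ finrank ℂ ↥(W ⊓ eg ρ ψ z l') :=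
    fun l l' hl hl' => by
      obtain ⟨g, hg, e⟩ := h (l / l') (div_ne_zero hl hl')
      exact finrank_le_of_apply g fun v hv => ⟨hg.1 v hv.1, apply_mem_eg_of_conj e (div_ne_zero hl hl')
        (by rw [mul_div_cancel₀ _ hl']; exact hv.2)⟩
  rw [finrank_eq_sum hψ hz hW, ← Finset.add_sum_erase _ _ (Finset.mem_univ 0), Finset.sum_congr rfl fun l hl =>
    le_antisymm (h1 l 1 (Finset.mem_erase.1 hl).1 one_ne_zero) (h1 1 l one_ne_zero (Finset.mem_erase.1 hl).1)]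
  simp

theorem card_mul_le_finrank {s : Finset F} {k : ℕ} (h : ∀ l ∈ s, k ≤ finrank ℂ ↥(W ⊓ eg ρ ψ z l)) :
    s.card * k ≤ finrank ℂ W := by
  rw [finrank_eq_sum hψ hz hW]
  exact (Finset.card_nsmul_le_sum s _ k h).trans (Finset.sum_le_sum_of_subset (Finset.subset_univ _))

theorem exists_mem_eg (h : W ≠ ⊥) : ∃ l, ∃ v ∈ W ⊓ eg ρ ψ z l, v ≠ 0 := by
  by_contra! h'
  refine h (Submodule.finrank_eq_zero.1 ?_)
  rw [finrank_eq_sum hψ hz hW]
  exact Finset.sum_eq_zero fun l _ => Submodule.finrank_eq_zero.2 ((Submodule.eq_bot_iff _).2 (h' l))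

theorem le_eg_zero (h : ∀ l, l ≠ 0 → ∀ v ∈ W ⊓ eg ρ ψ z l, v = 0) : W ≤ eg ρ ψ z 0 := by
  have := finrank_eq_sum hψ hz hW
  rw [Finset.sum_eq_single 0 (fun l _ hl => Submodule.finrank_eq_zero.2 ((Submodule.eq_bot_iff _).2 (h l hl)))
    (by simp)] at this
  exact inf_eq_left.1 (Submodule.eq_of_le_of_finrank_eq inf_le_left this.symm)

end CfsgLib.MinDeg
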