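import Mathlib
import Cfsg.Agent.Lib.MinDeg.Eig

/-!
# Groups with root elements of type `G₂` and fixed spaces in their representations

Roots: `7 = a` (short), `6 = b` (long), `8 = a + b`, `9 = 2a + b`, `10 = 3a + b`, `11 = 3a + 2b`, `-r = 11 - r`.
-/

set_option autoImplicit false

namespace CfsgLib.MinDeg

open Module CfsgLib.Stein

/-- the terms of the commutator formula -/
def tbl : Fin 12 → Fin 12 → List (Fin 12 × ℤ × ℕ × ℕ)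
  | 0, 6 => [(1, -1, 1, 1)]
  | 0, 8 => [(2, -1, 1, 1), (4, 1, 2, 1), (6, 1, 3, 1), (1, 1, 3, 2)]
  | 0, 9 => [(3, 1, 1, 1), (7, -1, 2, 1), (10, 1, 3, 1), (5, -1, 3, 2)]
  | 0, 10 => [(5, 1, 1, 1)]
  | 1, 5 => [(0, -1, 1, 1)]
  | 1, 7 => [(2, -1, 1, 1), (3, -1, 2, 1), (5, -1, 3, 1), (0, -1, 3, 2)]
  | 1, 9 => [(4, 1, 1, 1), (8, 1, 2, 1), (11, -1, 3, 1), (6, 1, 3, 2)]
  | 1, 11 => [(6, 1, 1, 1)]
  | 2, 3 => [(0, -3, 1, 1)]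
  | 2, 4 => [(1, -3, 1, 1)]
  | 2, 7 => [(3, 2, 1, 1), (5, 3, 2, 1), (0, -3, 1, 2)]
  | 2, 8 => [(4, -2, 1, 1), (6, -3, 2, 1), (1, 3, 1, 2)]
  | 2, 10 => [(7, 1, 1, 1), (3, 1, 1, 2), (0, -1, 1, 3), (5, -2, 2, 3)]
  | 2, 11 => [(8, 1, 1, 1), (4, -1, 1, 2), (1, 1, 1, 3), (6, 2, 2, 3)]
  | 3, 2 => [(0, 3, 1, 1)]
  | 3, 4 => [(2, 2, 1, 1), (1, -3, 2, 1), (0, 3, 1, 2)]
  | 3, 6 => [(4, -1, 1, 1), (2, -1, 1, 2), (0, -1, 1, 3), (1, 2, 2, 3)]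
  | 3, 7 => [(5, 3, 1, 1)]
  | 3, 9 => [(7, -2, 1, 1), (10, 3, 2, 1), (5, -3, 1, 2)]
  | 3, 11 => [(9, -1, 1, 1), (7, 1, 1, 2), (5, 1, 1, 3), (10, -2, 2, 3)]
  | 4, 2 => [(1, 3, 1, 1)]
  | 4, 3 => [(2, -2, 1, 1), (0, 3, 2, 1), (1, -3, 1, 2)]
  | 4, 5 => [(3, -1, 1, 1), (2, 1, 1, 2), (1, 1, 1, 3), (0, -2, 2, 3)]
  | 4, 8 => [(6, 3, 1, 1)]
  | 4, 9 => [(8, 2, 1, 1), (11, -3, 2, 1), (6, 3, 1, 2)]
  | 4, 10 => [(9, -1, 1, 1), (8, -1, 1, 2), (6, -1, 1, 3), (11, 2, 2, 3)]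
  | 5, 1 => [(0, 1, 1, 1)]
  | 5, 4 => [(3, 1, 1, 1), (2, 1, 2, 1), (1, -1, 3, 1), (0, 1, 3, 2)]
  | 5, 8 => [(7, -1, 1, 1), (9, -1, 2, 1), (11, -1, 3, 1), (10, -1, 3, 2)]
  | 5, 11 => [(10, -1, 1, 1)]
  | 6, 0 => [(1, 1, 1, 1)]
  | 6, 3 => [(4, 1, 1, 1), (2, -1, 2, 1), (0, 1, 3, 1), (1, -1, 3, 2)]
  | 6, 7 => [(8, -1, 1, 1), (9, 1, 2, 1), (10, 1, 3, 1), (11, 1, 3, 2)]
  | 6, 10 => [(11, -1, 1, 1)]
  | 7, 1 => [(2, 1, 1, 1), (3, -1, 1, 2), (5, 1, 1, 3), (0, 2, 2, 3)]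
  | 7, 2 => [(3, -2, 1, 1), (0, -3, 2, 1), (5, 3, 1, 2)]
  | 7, 3 => [(5, -3, 1, 1)]
  | 7, 6 => [(8, 1, 1, 1), (9, 1, 1, 2), (10, -1, 1, 3), (11, -2, 2, 3)]
  | 7, 8 => [(9, 2, 1, 1), (11, 3, 2, 1), (10, -3, 1, 2)]
  | 7, 9 => [(10, -3, 1, 1)]
  | 8, 0 => [(2, 1, 1, 1), (4, 1, 1, 2), (6, -1, 1, 3), (1, -2, 2, 3)]
  | 8, 2 => [(4, 2, 1, 1), (1, 3, 2, 1), (6, -3, 1, 2)]
  | 8, 4 => [(6, -3, 1, 1)]
  | 8, 5 => [(7, 1, 1, 1), (9, -1, 1, 2), (11, 1, 1, 3), (10, 2, 2, 3)]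
  | 8, 7 => [(9, -2, 1, 1), (10, -3, 2, 1), (11, 3, 1, 2)]
  | 8, 9 => [(11, -3, 1, 1)]
  | 9, 0 => [(3, -1, 1, 1), (7, -1, 1, 2), (10, -1, 1, 3), (5, 2, 2, 3)]
  | 9, 1 => [(4, -1, 1, 1), (8, 1, 1, 2), (11, 1, 1, 3), (6, -2, 2, 3)]
  | 9, 3 => [(7, 2, 1, 1), (5, -3, 2, 1), (10, 3, 1, 2)]
  | 9, 4 => [(8, -2, 1, 1), (6, 3, 2, 1), (11, -3, 1, 2)]
  | 9, 7 => [(10, 3, 1, 1)]
  | 9, 8 => [(11, 3, 1, 1)]
  | 10, 0 => [(5, -1, 1, 1)]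
  | 10, 2 => [(7, -1, 1, 1), (3, 1, 2, 1), (0, 1, 3, 1), (5, 1, 3, 2)]
  | 10, 4 => [(9, 1, 1, 1), (8, -1, 2, 1), (6, 1, 3, 1), (11, -1, 3, 2)]
  | 10, 6 => [(11, 1, 1, 1)]
  | 11, 1 => [(6, -1, 1, 1)]
  | 11, 2 => [(8, -1, 1, 1), (4, -1, 2, 1), (1, -1, 3, 1), (6, -1, 3, 2)]
  | 11, 3 => [(9, 1, 1, 1), (7, 1, 2, 1), (5, -1, 3, 1), (10, 1, 3, 2)]
  | 11, 5 => [(10, 1, 1, 1)]
  | _, _ => []

/-- the terms that survive in characteristic dividing `k` -/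
def tb (k : ℤ) (a b : Fin 12) : List (Fin 12 × ℤ × ℕ × ℕ) := (tbl a b).filter fun e => ¬ k ∣ e.2.1

/-- first coordinates of the roots -/
def ra : Fin 12 → ℤ := ![-3, -3, -2, -1, -1, 0, 0, 1, 1, 2, 3, 3]

/-- second coordinates of the roots -/
def rb : Fin 12 → ℤ := ![-2, -1, -1, -1, 0, -1, 1, 0, 1, 1, 1, 2]

/-- the reflections -/
def rf : Fin 12 → Fin 12 → Fin 12 := ![![11, 6, 8, 9, 4, 10, 1, 7, 2, 3, 5, 0],
  ![5, 10, 7, 3, 9, 0, 11, 2, 8, 4, 1, 6],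
  ![10, 11, 9, 7, 8, 5, 6, 3, 4, 2, 0, 1],
  ![6, 1, 4, 8, 2, 11, 0, 9, 3, 7, 10, 5],
  ![0, 5, 3, 2, 7, 1, 10, 4, 9, 8, 6, 11],
  ![1, 0, 2, 4, 3, 6, 5, 8, 7, 9, 11, 10],
  ![1, 0, 2, 4, 3, 6, 5, 8, 7, 9, 11, 10],
  ![0, 5, 3, 2, 7, 1, 10, 4, 9, 8, 6, 11],
  ![6, 1, 4, 8, 2, 11, 0, 9, 3, 7, 10, 5],
  ![10, 11, 9, 7, 8, 5, 6, 3, 4, 2, 0, 1],
  ![5, 10, 7, 3, 9, 0, 11, 2, 8, 4, 1, 6],
  ![11, 6, 8, 9, 4, 10, 1, 7, 2, 3, 5, 0]]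

/-- root elements and a torus of type `G₂` -/
structure GS (F G : Type*) [Field F] [Group G] where
  x : Fin 12 → F → G
  τ : Fˣ × Fˣ →* G
  add : ∀ r s t, x r (s + t) = x r s * x r t
  comm : ∀ a b, a ≠ b → a ≠ b.rev → ∀ t u, cm (x a t) (x b u) =
    ((tbl a b).map fun e => x e.1 (e.2.1 * (-u) ^ e.2.2.1 * t ^ e.2.2.2)).prod
  tor : ∀ c r t, τ c * x r t * (τ c)⁻¹ = x r ((c.1 ^ ra r * c.2 ^ rb r : Fˣ) * t)
  nn : ∀ r s, ∃ l, l ≠ 0 ∧ ∀ t, x r 1 * x r.rev (-1) * x r 1 * x s t * (x r 1 * x r.rev (-1) * x r 1)⁻¹ =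
    x (rf r s) (l * t)

/-- the root subgroup of `s` normalises the group generated by the root subgroups of `L` -/
def St (k : ℤ) (L : List (Fin 12)) (s : Fin 12) : Prop :=
  ∀ r ∈ L, r = s ∨ (r ≠ s.rev ∧ ∀ e ∈ tb k r s, e.1 ∈ L)

instance (k : ℤ) (L : List (Fin 12)) (s : Fin 12) : Decidable (St k L s) := by unfold St; infer_instance

/-- the commutators of `r` and `s` lie in the group generated by the root subgroups of `L` -/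
def Cm (k : ℤ) (L : List (Fin 12)) (r s : Fin 12) : Prop := r = s ∨ (r ≠ s.rev ∧ ∀ e ∈ tb k r s, e.1 ∈ L)

instance (k : ℤ) (L : List (Fin 12)) (r s : Fin 12) : Decidable (Cm k L r s) := by unfold Cm; infer_instance

/-- the commutators of `a` and `b` are given by a single term -/
def One (k : ℤ) (a b z : Fin 12) (c : ℤ) : Prop := a ≠ b ∧ a ≠ b.rev ∧ tb k a b = [(z, c, 1, 1)]

instance (k : ℤ) (a b z : Fin 12) (c : ℤ) : Decidable (One k a b z c) := by unfold One; infer_instance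

/-- two roots forming a basis of the root lattice -/
def Uni (r s : Fin 12) : Prop := (ra r * rb s - rb r * ra s) ^ 2 = 1

instance (r s : Fin 12) : Decidable (Uni r s) := by unfold Uni; infer_instance

/-- the reflection in `r` interchanges two lists -/
def Sw (r : Fin 12) (L L' : List (Fin 12)) : Prop := (∀ s ∈ L', rf r s ∈ L) ∧ ∀ s ∈ L, rf r s ∈ L'

instance (r : Fin 12) (L L' : List (Fin 12)) : Decidable (Sw r L L') := by unfold Sw; infer_instance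

theorem rf_rf : ∀ r s, rf r (rf r s) = s := by decide

namespace GS

variable {F G V : Type*} [Field F] [Group G] [AddCommGroup V] [Module ℂ V] (S : GS F G) (ρ : Representation ℂ G V)
  (ψ : AddChar F ℂ)

/-- eigenspaces of root subgroups -/
abbrev E (r : Fin 12) (l : F) : Submodule ℂ V := eg ρ ψ (S.x r) l

/-- the fixed space of some root subgroups -/
def FL (L : List (Fin 12)) : Submodule ℂ V := fx ρ {g | ∃ r ∈ L, ∃ t, g = S.x r t}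

/-- its dimension -/
noncomputable def f (L : List (Fin 12)) : ℕ := finrank ℂ (S.FL ρ L)

/-- the multiplicity of a non-trivial character of `z` in it -/
noncomputable def g (L : List (Fin 12)) (z : Fin 12) : ℕ := finrank ℂ ↥(S.FL ρ L ⊓ S.E ρ ψ z 1)

/-- the representative of the reflection in `r` -/
def n (r : Fin 12) : G := S.x r 1 * S.x r.rev (-1) * S.x r 1

theorem x_zero (r : Fin 12) : S.x r 0 = 1 := (addHom (S.add r)).map_one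

theorem x_neg (r : Fin 12) (t : F) : S.x r (-t) = (S.x r t)⁻¹ := (addHom (S.add r)).map_inv (.ofAdd t)

theorem n_conj (r s : Fin 12) : ∃ l, l ≠ 0 ∧ ∀ t, S.n r * S.x s t * (S.n r)⁻¹ = S.x (rf r s) (l * t) := S.nn r s

theorem tor2 {r s : Fin 12} (h : Uni r s) {c d : F} (hc : c ≠ 0) (hd : d ≠ 0) : ∃ p,
    (∀ t, S.τ p * S.x r t * (S.τ p)⁻¹ = S.x r (c * t)) ∧ ∀ t, S.τ p * S.x s t * (S.τ p)⁻¹ = S.x s (d * t) := by
  lift c to Fˣ using hc.isUnit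
  lift d to Fˣ using hd.isUnit
  unfold Uni at h
  generalize hD : ra r * rb s - rb r * ra s = D at h
  have key : ∀ i j k l y z : ℤ, (c ^ i * d ^ j) ^ y * (c ^ k * d ^ l) ^ z = c ^ (i * y + k * z) * d ^ (j * y + l * z) :=
    fun i j k l y z => by simp only [mul_zpow, ← zpow_mul, zpow_add]; ac_rfl
  refine ⟨(c ^ (D * rb s) * d ^ (-D * rb r), c ^ (-D * ra s) * d ^ (D * ra r)), fun t => ?_, fun t => ?_⟩ <;>
    rw [S.tor, key]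
  · rw [show D * rb s * ra r + -D * ra s * rb r = 1 by linear_combination D * hD + h,
      show -D * rb r * ra r + D * ra r * rb r = 0 by ring]; simp
  · rw [show D * rb s * ra s + -D * ra s * rb s = 0 by ring,
      show -D * rb r * ra s + D * ra r * rb s = 1 by linear_combination D * hD + h]; simp

theorem tor1 (r : Fin 12) {c : F} (hc : c ≠ 0) : ∃ p, ∀ t, S.τ p * S.x r t * (S.τ p)⁻¹ = S.x r (c * t) := by
  obtain ⟨s, hs⟩ := (by decide : ∀ r, ∃ s, Uni r s) r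
  exact (S.tor2 hs hc one_ne_zero).imp fun _ h => h.1

variable {ρ ψ} {v : V} {L L' : List (Fin 12)} {k : ℤ} {r s z z' a b : Fin 12} {l : F}

theorem mem_FL : v ∈ S.FL ρ L ↔ ∀ r ∈ L, ∀ t, ρ (S.x r t) v = v :=
  ⟨fun h r hr t => h _ ⟨r, hr, t, rfl⟩, fun h _ ⟨r, hr, t, e⟩ => e ▸ h r hr t⟩

theorem FL_nil : S.FL ρ [] = ⊤ := eq_top_iff.2 fun _ _ => S.mem_FL.2 (by simp)

theorem f_nil : S.f ρ [] = finrank ℂ V := by rw [f, FL_nil, finrank_top]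

theorem FL_cons : S.FL ρ (r :: L) = S.FL ρ L ⊓ S.E ρ ψ r 0 := by
  ext v; simp [mem_FL, mem_eg_zero, and_comm]

theorem mem_cons (h : v ∈ S.FL ρ L) (h' : v ∈ S.E ρ ψ r 0) : v ∈ S.FL ρ (r :: L) := S.FL_cons.ge ⟨h, h'⟩

theorem mem_of_subset (h : v ∈ S.FL ρ L) (h' : L' ⊆ L := by decide) : v ∈ S.FL ρ L' :=
  S.mem_FL.2 fun r hr => S.mem_FL.1 h r (h' hr)

theorem mem_E (h : v ∈ S.FL ρ L) (h' : r ∈ L := by decide) : v ∈ S.E ρ ψ r 0 := mem_eg_zero.2 (S.mem_FL.1 h r h')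

theorem FL_congr (L L' : List (Fin 12)) (h : L ⊆ L' ∧ L' ⊆ L := by decide) : S.FL ρ L = S.FL ρ L' :=
  le_antisymm (fun _ hv => S.mem_of_subset hv h.2) fun _ hv => S.mem_of_subset hv h.1

theorem f_congr (L L' : List (Fin 12)) (h : L ⊆ L' ∧ L' ⊆ L := by decide) : S.f ρ L = S.f ρ L' := by
  rw [f, S.FL_congr L L' h, f]

theorem g_congr (L L' : List (Fin 12)) (z : Fin 12) (h : L ⊆ L' ∧ L' ⊆ L := by decide) :
    S.g ρ ψ L z = S.g ρ ψ L' z := by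
  rw [g, S.FL_congr L L' h, g]

theorem mem_FL_of_conj {y : G} (h : ∀ r ∈ L', ∃ s ∈ L, ∃ l, l ≠ 0 ∧ ∀ t, y * S.x s t * y⁻¹ = S.x r (l * t))
    (hv : v ∈ S.FL ρ L) : ρ y v ∈ S.FL ρ L' := S.mem_FL.2 fun r hr => by
  obtain ⟨s, hs, l, hl, e⟩ := h r hr
  exact mem_eg_zero.1 (apply_mem_eg_of_conj (ψ := 1) (l := 0) e hl (by simpa using S.mem_E hv hs))

theorem τ_mem (p : Fˣ × Fˣ) (hv : v ∈ S.FL ρ L) : ρ (S.τ p) v ∈ S.FL ρ L :=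
  S.mem_FL_of_conj (fun r hr => ⟨r, hr, _, Units.ne_zero _, S.tor p r⟩) hv

theorem τ_stab (p : Fˣ × Fˣ) : S.τ p ∈ stab ρ (S.FL ρ L) :=
  ⟨fun _ => S.τ_mem p, fun _ => map_inv S.τ p ▸ S.τ_mem p⁻¹⟩

theorem n_mem (r : Fin 12) (hv : v ∈ S.FL ρ L) (h : ∀ s ∈ L', rf r s ∈ L := by decide) : ρ (S.n r) v ∈ S.FL ρ L' :=
  S.mem_FL_of_conj (fun s hs => ⟨_, h s hs, by simpa only [rf_rf] using S.n_conj r (rf r s)⟩) hv

theorem comm' (hk : (k : F) = 0) (h1 : a ≠ b) (h2 : a ≠ b.rev) (t u : F) : cm (S.x a t) (S.x b u) =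
    ((tb k a b).map fun e => S.x e.1 (e.2.1 * (-u) ^ e.2.2.1 * t ^ e.2.2.2)).prod := by
  rw [S.comm a b h1 h2, tb]
  induction tbl a b with
  | nil => rfl
  | cons e l ih =>
    rw [List.filter_cons]
    split_ifs with h
    · simp only [List.map_cons, List.prod_cons, ih]
    · obtain ⟨c, hc⟩ : k ∣ e.2.1 := by simpa using h
      simp only [List.map_cons, List.prod_cons, ih, hc, Int.cast_mul, hk, zero_mul, x_zero, one_mul]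

theorem cm_one (hk : (k : F) = 0) {c : ℤ} (h : One k a b z c) (t u : F) :
    cm (S.x a t) (S.x b u) = S.x z (-c * u * t) := by
  simp [S.comm' hk h.1 h.2.1, h.2.2]

theorem cm_apply (hk : (k : F) = 0) (h : Cm k L r s) (hv : v ∈ S.FL ρ L) (t u : F) :
    ρ (cm (S.x r t) (S.x s u)) v = v := by
  rcases eq_or_ne r s with rfl | h1
  · simp [cm, ← x_neg, ← S.add, x_zero]
  obtain ⟨h2, h3⟩ := h.resolve_left h1
  rw [S.comm' hk h1 h2]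
  refine mem_fixer.1 (list_prod_mem fun y hy => ?_)
  obtain ⟨e, he, rfl⟩ := List.mem_map.1 hy
  exact S.mem_FL.1 hv _ (h3 e he) _

theorem commute (hk : (k : F) = 0) (h : Cm k [] r s) (t u : F) : Commute (S.x r t) (S.x s u) := by
  rw [← cm_eq_one_iff]
  rcases eq_or_ne r s with rfl | h1
  · simp [cm, ← x_neg, ← S.add, x_zero]
  obtain ⟨h2, h3⟩ := h.resolve_left h1
  rw [S.comm' hk h1 h2, show tb k r s = [] from List.eq_nil_iff_forall_not_mem.2 fun e he => by simpa using h3 e he]; rfl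

theorem x_mem (hk : (k : F) = 0) (s : Fin 12) (u : F) (hv : v ∈ S.FL ρ L) (h : St k L s := by decide) :
    ρ (S.x s u) v ∈ S.FL ρ L := S.mem_FL.2 fun r hr =>
  mem_eg_zero.1 (apply_mem_eg' (ψ := 1) (S.mem_E hv hr) fun t => S.cm_apply hk (h r hr) hv t u)

theorem x_mem_E (hk : (k : F) = 0) (s : Fin 12) (u : F) (hv : v ∈ S.FL ρ L) (hv' : v ∈ S.E ρ ψ r l)
    (h : Cm k L r s := by decide) : ρ (S.x s u) v ∈ S.E ρ ψ r l :=
  apply_mem_eg' hv' fun t => S.cm_apply hk h hv t u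

theorem stab_of_forall {W : Submodule ℂ V} (h : ∀ u, ∀ v ∈ W, ρ (S.x s u) v ∈ W) (u : F) : S.x s u ∈ stab ρ W :=
  ⟨h u, S.x_neg s u ▸ h (-u)⟩

theorem x_stab (hk : (k : F) = 0) (h : St k L s) (u : F) : S.x s u ∈ stab ρ (S.FL ρ L) :=
  S.stab_of_forall (fun u _ hv => S.x_mem hk s u hv h) u

theorem x_stab_E (hk : (k : F) = 0) (h : St k L s) (h' : Cm k L r s) (u : F) :
    S.x s u ∈ stab ρ (S.FL ρ L ⊓ S.E ρ ψ r l) :=
  S.stab_of_forall (fun u _ hv => Submodule.mem_inf.2 ⟨S.x_mem hk s u hv.1 h, S.x_mem_E hk s u hv.1 hv.2 h'⟩) u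

theorem τ_stab_E {p : Fˣ × Fˣ} (h : ∀ t, S.τ p * S.x r t * (S.τ p)⁻¹ = S.x r (1 * t)) :
    S.τ p ∈ stab ρ (S.FL ρ L ⊓ S.E ρ ψ r l) :=
  mem_stab_inf (S.τ_stab p) ⟨fun _ hv => apply_mem_eg_of_conj h one_ne_zero (by rwa [mul_one]),
    fun _ hv => apply_mem_eg_of_conj (z := S.x r) (c := 1) (fun t => by
      conv_lhs => rw [← one_mul t, ← h]
      simp [mul_assoc]) one_ne_zero (by rwa [mul_one])⟩

variable [FiniteDimensional ℂ V]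

theorem f_sw (r : Fin 12) (L L' : List (Fin 12)) (h : Sw r L L' := by decide) : S.f ρ L = S.f ρ L' :=
  le_antisymm (finrank_le_of_apply _ fun _ hv => S.n_mem r hv h.1) (finrank_le_of_apply _ fun _ hv => S.n_mem r hv h.2)

theorem finrank_eq_g (hl : l ≠ 0) : finrank ℂ ↥(S.FL ρ L ⊓ S.E ρ ψ z l) = S.g ρ ψ L z := by
  obtain ⟨p, hp⟩ := S.tor1 z hl
  obtain ⟨p', hp'⟩ := S.tor1 z (inv_ne_zero hl)
  exact le_antisymm (finrank_le_of_apply _ fun _ hv => ⟨S.τ_mem p hv.1, apply_mem_eg_of_conj hp hl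
    (by rw [one_mul]; exact hv.2)⟩) (finrank_le_of_apply _ fun _ hv => ⟨S.τ_mem p' hv.1,
      apply_mem_eg_of_conj hp' (inv_ne_zero hl) (by rw [mul_inv_cancel₀ hl]; exact hv.2)⟩)

theorem g_sw (r : Fin 12) (L L' : List (Fin 12)) (z z' : Fin 12) (h : Sw r L L' ∧ rf r z = z' := by decide) :
    S.g ρ ψ L z = S.g ρ ψ L' z' := by
  have key : ∀ {L L' z z'}, (∀ s ∈ L', rf r s ∈ L) → rf r z = z' → S.g ρ ψ L z ≤ S.g ρ ψ L' z' := by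
    rintro L L' z _ h rfl
    obtain ⟨l, hl, e⟩ := S.n_conj r z
    rw [← S.finrank_eq_g hl]
    exact finrank_le_of_apply _ fun _ hv => ⟨S.n_mem r hv.1 h, apply_mem_eg_of_conj e hl (by rw [one_mul]; exact hv.2)⟩
  exact le_antisymm (key h.1.1 h.2) (key h.1.2 (by rw [← h.2, rf_rf]))

variable [Fintype F] (hψ : ψ.IsPrimitive) (hk : (k : F) = 0)
include hψ hk

theorem f_eq (L : List (Fin 12)) (z : Fin 12) (h : St k L z := by decide) :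
    S.f ρ L = S.f ρ (z :: L) + (Fintype.card F - 1) * S.g ρ ψ L z := by
  rw [f, f, S.FL_cons (ψ := ψ)]
  exact finrank_eigen hψ (S.add z) (S.x_stab hk h) fun c hc => (S.tor1 z hc).elim fun p hp => ⟨_, S.τ_stab p, hp⟩

theorem g_eq (L : List (Fin 12)) (z a b : Fin 12) (c : ℤ) (hc : (c : F) ≠ 0)
    (h : One k a b z c ∧ St k L a ∧ St k L b ∧ Cm k L z a ∧ Cm k L z b := by decide) :
    S.g ρ ψ L z = Fintype.card F * S.g ρ ψ (a :: L) z := by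
  rw [g, g, S.FL_cons (ψ := ψ), inf_right_comm]
  refine finrank_shift hψ (S.add a) (S.x_stab_E hk h.2.1 h.2.2.2.1) fun δ => ⟨S.x b (-δ / c), fun l v hv =>
    ⟨(S.x_stab_E hk h.2.2.1 h.2.2.2.2 _).1 v hv.1, apply_mem_eg hv.2 fun t => ?_⟩⟩
  rw [S.cm_one hk h.1, hv.1.2]
  congr 2; field_simp

theorem g_eigen (L : List (Fin 12)) (z a : Fin 12) (h : Uni z a ∧ St k L a ∧ Cm k L z a := by decide) :
    S.g ρ ψ L z = S.g ρ ψ (a :: L) z +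
      (Fintype.card F - 1) * finrank ℂ ↥(S.FL ρ L ⊓ S.E ρ ψ z 1 ⊓ S.E ρ ψ a 1) := by
  rw [g, g, S.FL_cons (ψ := ψ), inf_right_comm _ (S.E ρ ψ a 0)]
  exact finrank_eigen hψ (S.add a) (S.x_stab_E hk h.2.1 h.2.2) fun c hc =>
    (S.tor2 h.1 one_ne_zero hc).elim fun p hp => ⟨_, S.τ_stab_E hp.1, hp.2⟩

end GS

end CfsgLib.MinDeg
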