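import Mathlib
import Cfsg.Agent.Lib.MinDeg.G2a

/-!
# Small representations of `G₂(q)`, `q` prime to `3`
-/

set_option autoImplicit false

namespace CfsgLib.MinDeg

open Module CfsgLib.Stein

variable {F G V : Type*} [Field F] [Group G] [AddCommGroup V] [Module ℂ V] {ρ : Representation ℂ G V}
  {ψ : AddChar F ℂ}

theorem mul_eq_cm (a b : G) (v : V) : ρ a (ρ b v) = ρ b (ρ a (ρ (cm a b) v)) := by
  simp only [← apply_mul]; congr 2; unfold cm; group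

theorem apply_comm {a b : G} (h : Commute a b) (v : V) : ρ a (ρ b v) = ρ b (ρ a v) := by
  rw [← apply_mul, ← apply_mul, h.eq]

theorem pr_eq_zero [Fintype F] (hψ : ψ.IsPrimitive) {z : F → G} (hz : ∀ s t, z (s + t) = z s * z t) {l l' : F} {v : V}
    (h : v ∈ eg ρ ψ z l) (hl : l ≠ l') : pr ρ ψ z l' v = 0 :=
  by_contra fun e => hl (eq_of_mem_eg hψ (pr_mem fun t => h t ▸ Submodule.smul_mem _ _ h) (pr_mem_eg hz) e)

theorem le_eg_of_scalar {z : F → G} (hz : ∀ s t, z (s + t) = z s * z t) {c : F} (hc : c ≠ 1) {g : G}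
    (h : ∀ t, g * z t * g⁻¹ = z (c * t)) {W : Submodule ℂ V} (hW : ∀ t, z t ∈ stab ρ W) {ζ : ℂ}
    (hg : ∀ v ∈ W, ρ g v = ζ • v) : W ≤ eg ρ ψ z 0 := fun v hv => mem_eg_zero.2 fun t => by
  obtain ⟨s, rfl⟩ : ∃ s, t = c * s - s := ⟨t / (c - 1), by have := sub_ne_zero.2 hc; field_simp⟩
  have h1 : ρ g (ρ (z (c * s)) v) = ρ g (ρ (z s) v) := by
    rw [hg _ ((hW _).1 v hv), ← map_smul, ← hg v hv, ← h, ← apply_mul, inv_mul_cancel_right, apply_mul]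
  have h2 := congrArg (fun y => ρ (z s)⁻¹ (ρ g⁻¹ y)) h1
  simp only [inv_apply_apply] at h2
  rwa [← apply_mul, show (z s)⁻¹ = z (-s) from ((addHom hz).map_inv (.ofAdd s)).symm, ← hz, neg_add_eq_sub] at h2

namespace GS

variable (S : GS F G) [Fintype F] [FiniteDimensional ℂ V] [Finite G] (hψ : ψ.IsPrimitive)
include hψ

theorem beta (hC : S.f ρ [1, 11, 6] ≤ 1) : ∃ β : ℂ, (S.FL ρ [1, 11, 6] = ⊥ ∨ β = Fintype.card F ∨ β = -1) ∧
    ∀ u, u ≠ 0 → ∀ v ∈ S.FL ρ [1, 11, 6], pr ρ ψ (S.x 1) 0 (ρ (S.x 10 u) v) = β • v ∧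
      pr ρ ψ (S.x 11) 0 (ρ (S.x 0 u) v) = β • v := by
  have k0 : ((0 : ℤ) : F) = 0 := Int.cast_zero
  obtain ⟨β, h1, h2⟩ := sl2 hψ hC (S.add 1) (S.add 10) (fun v hv => S.mem_E hv)
    (fun v hv => S.mem_cons (pr_mem fun t => S.x_mem k0 1 t (S.x_mem k0 10 1 (S.mem_of_subset hv)))
      (pr_mem_eg (S.add 1)))
    (fun c hc => (S.tor1 10 hc).elim fun p hp => ⟨_, S.τ_stab p, ⟨_, Units.ne_zero _, S.tor p 1⟩, by rw [hp, mul_one]⟩)
    (S.nn 1 1)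
  refine ⟨β, h2, fun u hu v hv => ⟨h1 u hu v hv, ?_⟩⟩
  obtain ⟨l, hl, e⟩ := S.n_conj 9 1
  obtain ⟨l', hl', e'⟩ := S.n_conj 9 10
  have h3 := congrArg (ρ (S.n 9)) (h1 (l'⁻¹ * u) (by simp [hu, hl']) _
    ((mem_stab_of_finite fun v hv => S.n_mem 9 (L' := [1, 11, 6]) hv).2 v hv))
  rwa [map_smul, apply_inv_apply, ← zero_mul l, apply_pr_of_conj e hl, ← apply_mul, ← apply_mul, e',
    mul_inv_cancel_left₀ hl'] at h3

theorem pr_ne_zero (hC : S.f ρ [1, 11, 6] ≤ 1) {w : V} {l κ : F} (hl : l ≠ 0) (hκ : κ ≠ 0)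
    (h1 : w ∈ S.FL ρ [11, 6]) (h2 : w ∈ S.E ρ ψ 10 l) (hw : w ≠ 0) :
    pr ρ ψ (S.x 0) κ (pr ρ ψ (S.x 5) 0 w) ≠ 0 := by
  classical
  have k0 : ((0 : ℤ) : F) = 0 := Int.cast_zero
  have hq : (Fintype.card F : ℂ) ≠ 0 := Nat.cast_ne_zero.2 Fintype.card_ne_zero
  obtain ⟨β, hβ, h⟩ := S.beta hψ hC
  set P := pr ρ ψ (S.x 6) 0 ∘ₗ pr ρ ψ (S.x 11) 0 with hP
  set v := pr ρ ψ (S.x 1) 0 w with hv
  have v1 : v ∈ S.FL ρ [1, 11, 6] := S.mem_cons (pr_mem fun t => S.x_mem k0 1 t h1) (pr_mem_eg (S.add 1))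
  have P1 : ∀ t y, P (ρ (S.x 6 t) y) = P y := fun t y => by
    rw [hP, LinearMap.comp_apply, ← pr_comm fun s => apply_comm (S.commute k0 (by decide) t s) y,
      pr_apply_z (S.add 6)]; simp
  have P2 : ∀ u y, ρ (S.x 10 u) (P y) = P (ρ (S.x 10 u) y) := fun u y => by
    rw [hP, LinearMap.comp_apply, LinearMap.comp_apply, ← pr_comm fun s => apply_comm (S.commute k0 (by decide) u s) y]
    exact pr_comm fun s => by
      rw [mul_eq_cm, S.cm_apply k0 (L := [11]) (by decide) (S.mem_cons (by simp [S.FL_nil]) (pr_mem_eg (S.add 11)))]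
  have P3 : P (pr ρ ψ (S.x 5) 0 w) = (Fintype.card F ^ 2 : ℂ) • w := by
    rw [map_pr hψ (S.add 5) P (y := 0) fun s hs => by
      rw [hP, LinearMap.comp_apply, pr_eq_zero hψ (S.add 11) (apply_mem_eg (δ := -(l * s)) (S.mem_E h1) fun t => by
        rw [S.cm_one k0 (z := 10) (c := 1) (by decide), h2]; congr 2; push_cast; ring) (by simp [hl, hs]), map_zero],
      hP, LinearMap.comp_apply, pr_of_mem (S.mem_E h1), map_smul, pr_of_mem (S.mem_E h1), smul_smul, smul_zero,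
      add_zero, sq]
  have P4 : ∀ r, r ≠ 0 → P (ρ (S.x 0 r) (pr ρ ψ (S.x 5) 0 w)) = β • pr ρ ψ (S.x 10) l v := fun r hr => by
    have a1 : ρ (S.x 0 r) (pr ρ ψ (S.x 5) 0 w) = pr ρ ψ (S.x 10) l (ρ (S.x 0 r) w) := by
      rw [pr_apply, pr_apply, map_sum, ← Equiv.sum_comp (Equiv.mulLeft₀ r hr)]
      refine Finset.sum_congr rfl fun u _ => ?_
      rw [mul_eq_cm (S.x 10 u), S.cm_one k0 (z := 5) (c := -1) (by decide),
        apply_comm (S.commute k0 (r := 10) (by decide) _ _), h2]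
      simp [smul_smul, ← AddChar.map_add_eq_mul]
    have a2 : P (ρ (S.x 0 r) v) = (Fintype.card F : ℂ) • P (ρ (S.x 0 r) w) := by
      refine (map_pr (l := 0) hψ (S.add 1) (P ∘ₗ ρ (S.x 0 r)) (y := P (ρ (S.x 0 r) w)) fun s _ => ?_).trans
        (by simp [sub_smul])
      rw [← P1 (-s / r) (ρ _ w), mul_eq_cm (S.x 6 _), S.cm_one k0 (z := 1) (c := 1) (by decide),
        S.mem_FL.1 (S.x_mem k0 1 _ h1) 6 (by decide), show -((1 : ℤ) : F) * r * (-s / r) = s by field_simp; simp]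
      rfl
    rw [hP, LinearMap.comp_apply, (h r hr v v1).2, map_smul, pr_of_mem (S.mem_E v1), ← hP, smul_comm] at a2
    rw [a1, ← map_smul, smul_right_injective V hq a2, pr_apply, pr_apply, map_sum]
    simp only [map_smul, P2]
  intro e
  have h3 := map_pr (l := κ) hψ (S.add 0) P P4
  rw [e, P3, if_neg hκ, map_zero] at h3
  have h4 := congrArg (pr ρ ψ (S.x 1) 0) h3
  rw [map_add, map_smul, map_smul, map_smul, map_pr hψ (S.add 10) _ fun u hu => (h u hu v v1).1, if_neg hl,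
    pr_of_mem (S.mem_E v1), ← hv, map_zero] at h4
  have h5 : v ≠ 0 := fun e => hw (by simpa [e, hq] using h3.symm)
  have h6 : (Fintype.card F : ℂ) ^ 2 - β * (Fintype.card F - β) = 0 :=
    (smul_eq_zero.1 (h4.symm ▸ by module : (_ : ℂ) • v = 0)).resolve_right h5
  rcases hβ with e | rfl | rfl
  · exact h5 ((Submodule.eq_bot_iff _).1 e v v1)
  · exact pow_ne_zero 2 hq (by linear_combination h6)
  · exact absurd (show ((Fintype.card F ^ 2 + Fintype.card F + 1 : ℕ) : ℂ) = 0 by push_cast; linear_combination h6)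
      (Nat.cast_ne_zero.2 (by omega))

theorem two_le_f (h3 : (3 : F) ≠ 0) {ω : Fˣ} (hω : ω ^ 3 = 1) (hω' : ω ≠ 1) (hm : S.g ρ ψ [9, 11] 10 = 1)
    (hb : S.FL ρ [9, 11] ⊓ S.E ρ ψ 10 1 ≤ S.E ρ ψ 6 0) : 2 ≤ S.f ρ [1, 11, 6] := by
  by_contra! hC
  have k0 : ((0 : ℤ) : F) = 0 := Int.cast_zero
  obtain ⟨w, hw, e⟩ := exists_span_of_finrank_eq_one hm
  have w0 := e.ge (Submodule.mem_span_singleton_self w)
  have ht : ∀ r, 3 ∣ ra r → ∀ s, Commute (S.τ (ω, 1)) (S.x r s) := by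
    rintro r ⟨k, hk⟩ s
    have := S.tor (ω, 1) r s
    rw [hk, zpow_mul, zpow_ofNat, hω] at this
    simpa [mul_inv_eq_iff_eq_mul, commute_iff_eq] using this
  obtain ⟨ζ, hζ⟩ := exists_smul_of_mem_stab (e ▸ S.τ_stab_E (ρ := ρ) (ψ := ψ) (L := [9, 11]) (l := 1) (r := 10)
    (p := (ω, 1)) fun t => by rw [(ht 10 (by decide) t).eq]; simp)
  let Y := Module.End.eigenspace (ρ (S.τ (ω, 1))) ζ
  have hY : ∀ g, Commute (S.τ (ω, 1)) g → ∀ v ∈ Y, ρ g v ∈ Y := fun g hg v hv => by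
    rw [Module.End.mem_eigenspace_iff] at hv ⊢
    rw [apply_comm hg, hv, map_smul]
  have hn : ∀ r, 3 ∣ ra r → 3 ∣ ra r.rev → Commute (S.τ (ω, 1)) (S.n r) := fun r h h' =>
    ((ht r h _).mul_right (ht _ h' _)).mul_right (ht r h _)
  have wY : w ∈ Y := Module.End.mem_eigenspace_iff.2 hζ
  have h1 := card_mul_le_finrank hψ (S.add 6) (W := S.FL ρ [11] ⊓ S.E ρ ψ 10 1 ⊓ Y) (s := Finset.univ) (k := 1)
    (S.stab_of_forall fun u v hv => ⟨(S.x_stab_E k0 (by decide) (by decide) u).1 v hv.1,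
      hY _ (ht 6 (by decide) u) v hv.2⟩) fun μ _ => Submodule.one_le_finrank_iff.2 ((Submodule.ne_bot_iff _).2 ?_)
  · have h2 := S.g_eq hψ k0 [11] 10 9 7 3 (by simpa using h3) (ρ := ρ)
    rw [hm, mul_one] at h2
    rw [mul_one, Finset.card_univ, ← h2] at h1
    have h4 := le_eg_of_scalar (ψ := ψ) (S.add 9) (fun e => hω' ?_) (S.tor (ω, 1) 9)
      (S.x_stab_E k0 (by decide) (by decide)) fun v hv => Module.End.mem_eigenspace_iff.1
        ((Submodule.eq_of_le_of_finrank_le inf_le_left h1).ge hv).2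
    · rw [g, S.FL_cons (ψ := ψ), inf_right_comm, inf_eq_left.2 h4, ← g, h2] at hm
      exact Fintype.one_lt_card.ne' hm
    · rw [← hω, pow_succ, show ω ^ 2 = 1 by simpa only [one_zpow, mul_one, show ra 9 = 2 from rfl, zpow_ofNat] using Units.val_eq_one.1 e,
        one_mul]
  rcases eq_or_ne μ 0 with rfl | hμ
  · exact ⟨w, ⟨⟨⟨S.mem_of_subset w0.1, w0.2⟩, wY⟩, hb w0⟩, hw⟩
  obtain ⟨l1, k1, e1⟩ := S.n_conj 6 0
  obtain ⟨l2, k2, e2⟩ := S.n_conj 10 1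
  obtain ⟨l3, k3, e3⟩ := S.n_conj 6 10
  obtain ⟨l4, k4, e4⟩ := S.n_conj 10 11
  have hl : μ * l4 * l3 ≠ 0 := by simp [*]
  obtain ⟨p, hp⟩ := S.tor1 10 (inv_ne_zero hl)
  have a1 : ρ (S.τ p) w ∈ S.FL ρ [11, 6] := S.τ_mem p (S.mem_of_subset (S.mem_cons w0.1 (hb w0)))
  have a2 : ρ (S.τ p) w ∈ S.E ρ ψ 10 (μ * l4 * l3) :=
    apply_mem_eg_of_conj hp (inv_ne_zero hl) (by rw [mul_inv_cancel₀ hl]; exact w0.2)
  have a3 := S.pr_ne_zero hψ (by omega) hl (show 1 * l2 * l1 ≠ 0 by simp [*]) a1 a2 (apply_ne_zero _ hw)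
  have a4 : pr ρ ψ (S.x 0) (1 * l2 * l1) (pr ρ ψ (S.x 5) 0 (ρ (S.τ p) w)) ∈ S.FL ρ [5] ⊓ S.E ρ ψ 10 (μ * l4 * l3) :=
    pr_mem fun t => (S.x_stab_E k0 (by decide) (by decide) t).1 _ ⟨S.mem_cons (by simp [S.FL_nil]) (pr_mem_eg (S.add 5)),
      pr_mem fun t => S.x_mem_E k0 5 t (L := []) (by simp [S.FL_nil]) a2⟩
  exact ⟨ρ (S.n 10) (ρ (S.n 6) _), ⟨⟨⟨S.n_mem 10 (S.n_mem 6 (L' := [6]) a4.1), apply_mem_eg_of_conj e2 k2
    (apply_mem_eg_of_conj e1 k1 (pr_mem_eg (S.add 0)))⟩, hY _ (hn 10 (by decide) (by decide)) _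
      (hY _ (hn 6 (by decide) (by decide)) _ (pr_mem fun t => hY _ (ht 0 (by decide) t) _ (pr_mem fun t =>
        hY _ (ht 5 (by decide) t) _ (hY _ ((Commute.all _ _).map S.τ) _ wY))))⟩,
    apply_mem_eg_of_conj e4 k4 (apply_mem_eg_of_conj e3 k3 a4.2)⟩, apply_ne_zero _ (apply_ne_zero _ a3)⟩

theorem bound_ne_three (h3 : (3 : F) ≠ 0) {q : ℕ} (hq : Fintype.card F = q + 1) (h4 : 3 < q)
    (hV : S.FL ρ [11] ≠ ⊤) : (q + 1) ^ 3 ≤ finrank ℂ V + 1 ∧ (3 ∣ q → (q + 1) ^ 3 + 1 ≤ finrank ℂ V) := by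
  have k0 : ((0 : ℤ) : F) = 0 := Int.cast_zero
  have a1 := S.f_eq hψ k0 [] 11 (ρ := ρ)
  have a2 := S.g_eq hψ k0 [] 11 10 6 1 (by simp) (ρ := ρ)
  have a3 := S.g_sw 6 [10] [11] 11 10 (ρ := ρ) (ψ := ψ)
  have a4 := S.f_eq hψ k0 [11] 10 (ρ := ρ)
  have a5 := S.g_eq hψ k0 [11] 10 9 7 3 (by simpa using h3) (ρ := ρ)
  have a6 := S.f_sw 7 [10, 11] [11, 6] (ρ := ρ)
  have a7 := S.f_eq hψ k0 [11, 6] 10 (ρ := ρ)
  have a8 := S.f_sw 10 [10, 11, 6] [1, 11, 6] (ρ := ρ)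
  have a9 : S.f ρ [11] < finrank ℂ V := Submodule.finrank_lt hV
  rw [S.f_nil, a2, a3, a5] at a1
  rw [a5, a6, a7, a8] at a4
  simp only [hq, Nat.add_sub_cancel] at a1 a4
  generalize hm : S.g ρ ψ [9, 11] 10 = m at a1 a4
  obtain rfl | rfl | hm2 : m = 0 ∨ m = 1 ∨ 2 ≤ m := by omega
  · omega
  swap
  · have : (q + 1) ^ 3 + 1 ≤ finrank ℂ V := by
      obtain ⟨m, rfl⟩ := Nat.exists_eq_add_of_le hm2
      obtain ⟨q, rfl⟩ := Nat.exists_eq_add_of_lt h4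
      rw [a1, a4]; ring_nf; omega
    omega
  obtain ⟨w, hw, e⟩ := exists_span_of_finrank_eq_one hm
  obtain ⟨α, hα⟩ := exists_pow_ne_one_of_isCyclic (G := Fˣ) three_ne_zero (by
    rwa [Nat.card_units, Nat.card_eq_fintype_card, hq, Nat.add_sub_cancel])
  have b1 : w ∈ S.E ρ ψ 6 0 := mem_eg_of_line (S.add 6) (fun e => hα (by simpa [ra, rb] using Units.val_eq_one.1 e)) (S.tor (α⁻¹, α ^ 3) 6)
    (e ▸ S.τ_stab_E fun t => by rw [S.tor]; simp [ra, rb, zpow_ofNat]) (e ▸ S.x_stab_E k0 (by decide) (by decide))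
  have w0 := e.ge (Submodule.mem_span_singleton_self w)
  have b2 : 1 ≤ S.g ρ ψ [11, 6] 10 := Submodule.one_le_finrank_iff.2 ((Submodule.ne_bot_iff _).2
    ⟨w, ⟨S.mem_of_subset (S.mem_cons w0.1 b1), w0.2⟩, hw⟩)
  obtain ⟨k, hk⟩ := Nat.exists_eq_add_of_le b2
  refine ⟨by rw [a1, a4, hk]; ring_nf; omega, fun h => ?_⟩
  obtain ⟨ω, hω⟩ := exists_prime_orderOf_dvd_card' (G := Fˣ) 3 (by
    rwa [Nat.card_units, Nat.card_eq_fintype_card, hq, Nat.add_sub_cancel])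
  have := S.two_le_f hψ h3 (hω ▸ pow_orderOf_eq_one ω) (by rintro rfl; simp at hω) hm
    (e ▸ (Submodule.span_singleton_le_iff_mem _ _).2 b1)
  rw [a1, a4, hk]; ring_nf; omega

end GS

end CfsgLib.MinDeg
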