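import Mathlib
import Cfsg.Agent.Lib.MinDeg.G2b

/-!
# Small representations of `G₂(q)`, `q` a power of `3`
-/

set_option autoImplicit false

namespace CfsgLib.MinDeg

open Module CfsgLib.Stein

theorem not_dvd_G2 {x d : ℤ} (hx : 9 ≤ x) (ho : Odd x) (h1 : x ^ 4 + x ^ 2 - 2 ≤ d) (h2 : d ≤ x ^ 4 + x ^ 2) :
    ¬ d ∣ x ^ 10 * ((x + 1) * (x ^ 6 - 1)) := fun h => by
  obtain rfl | rfl | rfl : d = (x ^ 2 - 1) * (x ^ 2 + 2) ∨ d = x ^ 4 + x ^ 2 - 1 ∨ d = x ^ 2 * (x ^ 2 + 1) := by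
    ring_nf; omega
  · obtain ⟨y, hy⟩ := ho
    rw [show x ^ 10 * ((x + 1) * (x ^ 6 - 1)) = (x ^ 2 - 1) * (x ^ 10 * ((x ^ 2 + 2) * ((x + 1) * (x ^ 2 - 1)) +
      3 * (x + 1))) by ring, mul_dvd_mul_iff_left (by nlinarith)] at h
    have := Int.le_of_dvd (by omega) ((dvd_add_right (dvd_mul_right _ _)).1
      ((IsCoprime.pow_right ⟨-y, 1 + y * x, by linear_combination hy⟩).dvd_of_dvd_mul_left h))
    nlinarith
  · rw [show (x + 1) * (x ^ 6 - 1) = (x ^ 4 + x ^ 2 - 1) * ((x + 1) * (x ^ 2 - 1)) + 2 * ((x + 1) * (x ^ 2 - 1))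
      by ring] at h
    have := Int.le_of_dvd (by nlinarith) ((dvd_add_right (dvd_mul_right _ _)).1
      ((IsCoprime.pow_right ⟨-1, x ^ 3 + x, by ring⟩).dvd_of_dvd_mul_left h))
    nlinarith [pow_pos (show 0 < x by omega) 3]
  · rw [show (x + 1) * (x ^ 6 - 1) = (x ^ 2 + 1) * ((x + 1) * (x ^ 4 - x ^ 2 + 1)) - 2 * (x + 1) by ring] at h
    have := Int.le_of_dvd (by omega) ((dvd_sub_right (dvd_mul_right _ _)).1
      ((IsCoprime.pow_right ⟨1, -x, by ring⟩).dvd_of_dvd_mul_left ((dvd_mul_left _ _).trans h)))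
    nlinarith

namespace GS

variable {F G V : Type*} [Field F] [Group G] [AddCommGroup V] [Module ℂ V] {ρ : Representation ℂ G V}
  {ψ : AddChar F ℂ} (S : GS F G)

theorem cm76 {v : V} {a c d : F} (h8 : v ∈ S.E ρ ψ 8 a) (h9 : v ∈ S.E ρ ψ 9 0) (h10 : v ∈ S.E ρ ψ 10 c)
    (h11 : v ∈ S.E ρ ψ 11 d) (t u : F) :
    ρ (cm (S.x 7 t) (S.x 6 u)) v = ψ (-a * u * t + (c * u - 2 * d * u ^ 2) * t ^ 3) • v := by
  rw [S.comm 7 6 (by decide) (by decide),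
    show tbl 7 6 = [(8, 1, 1, 1), (9, 1, 1, 2), (10, -1, 1, 3), (11, -2, 2, 3)] from rfl]
  simp only [List.map, List.prod_cons, List.prod_nil, apply_mul, mul_one, map_smul, h8 _, h9 _, h10 _, h11 _,
    smul_smul, ← AddChar.map_add_eq_mul]
  congr 2; push_cast; ring

theorem cm67 {v : V} {a c : F} (h8 : v ∈ S.E ρ ψ 8 a) (h9 : v ∈ S.E ρ ψ 9 0) (h10 : v ∈ S.E ρ ψ 10 c)
    (h11 : v ∈ S.E ρ ψ 11 0) (t u : F) : ρ (cm (S.x 6 u) (S.x 7 t)) v = ψ ((a * t - c * t ^ 3) * u) • v := by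
  rw [S.comm 6 7 (by decide) (by decide),
    show tbl 6 7 = [(8, -1, 1, 1), (9, 1, 2, 1), (10, 1, 3, 1), (11, 1, 3, 2)] from rfl]
  simp only [List.map, List.prod_cons, List.prod_nil, apply_mul, mul_one, map_smul, h8 _, h9 _, h10 _, h11 _,
    smul_smul, ← AddChar.map_add_eq_mul]
  congr 2; push_cast; ring

theorem g_cons {L : List (Fin 12)} {r z : Fin 12} (h : S.FL ρ L ⊓ S.E ρ ψ z 1 ≤ S.E ρ ψ r 0) :
    S.g ρ ψ (r :: L) z = S.g ρ ψ L z := by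
  rw [g, S.FL_cons (ψ := ψ), inf_right_comm, inf_eq_left.2 h, g]

variable [FiniteDimensional ℂ V]

theorem le_of_g_eq {r z : Fin 12} (h : S.g ρ ψ [r] z = S.g ρ ψ [] z) {l : F} (hl : l ≠ 0) :
    S.E ρ ψ z l ≤ S.E ρ ψ r 0 := fun v hv => by
  rw [← S.finrank_eq_g hl, ← S.finrank_eq_g hl] at h
  exact S.mem_E ((Submodule.eq_of_le_of_finrank_eq (inf_le_inf_right _ fun _ h => S.mem_of_subset h
    (List.nil_subset _)) h).ge ⟨by simp [S.FL_nil], hv⟩).1 (List.mem_singleton_self r)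

variable [Fintype F] (hψ : ψ.IsPrimitive) (h3 : (3 : F) = 0)
include h3

omit [FiniteDimensional ℂ V] in
theorem cube_surj (t : F) : ∃ s, s ^ 3 = t :=
  Finite.injective_iff_surjective.1 (fun a b (h : a ^ 3 = b ^ 3) => sub_eq_zero.1 (pow_eq_zero_iff three_ne_zero |>.1
    (by linear_combination h + (a * b ^ 2 - a ^ 2 * b) * h3))) t

include hψ

theorem g_ne {α : F} (h0 : α ≠ 0) (hα : α ^ 2 ≠ 1) (h : S.g ρ ψ [9] 11 = S.g ρ ψ [] 11) : S.g ρ ψ [] 11 = 0 := by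
  by_contra hg
  have k3 : ((3 : ℤ) : F) = 0 := by simpa using h3
  have a1 := (S.g_sw 7 [8] [9] 11 11).trans h
  have a2 := ((S.g_sw 6 [7] [8] 10 11).trans a1).trans (S.g_sw 6 [] [] 11 10)
  have sh : ∀ {v l} u, v ∈ S.E ρ ψ 11 1 → v ∈ S.E ρ ψ 10 l → ρ (S.x 6 u) v ∈ S.E ρ ψ 10 (l + -u) :=
    fun u h h' => apply_mem_eg h' fun t => by rw [S.cm_one k3 (z := 11) (c := 1) (by decide), h]; simp
  obtain ⟨l, w, ⟨⟨w0, w1⟩, w2⟩, hw⟩ := exists_mem_eg hψ (S.add 10) (S.x_stab_E k3 (by decide) (by decide))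
    fun e : S.FL ρ [] ⊓ S.E ρ ψ 11 1 = ⊥ => hg (Submodule.finrank_eq_zero.2 e)
  have v1 := S.x_mem_E k3 6 (l - 1) w0 w1
  have v2 := sh (l - 1) w1 w2
  rw [show l + -(l - 1) = 1 by ring] at v2
  have hv := apply_ne_zero (ρ := ρ) (S.x 6 (l - 1)) hw
  generalize ρ (S.x 6 (l - 1)) w = v at v1 v2 hv
  refine mul_ne_zero h0 (fun e : 1 + α = 0 => hα (by linear_combination (α - 1) * e)) (eq_zero_of_forall hψ fun t => ?_)
  obtain ⟨s, rfl⟩ := cube_surj h3 t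
  have b1 := S.cm76 (S.le_of_g_eq a1 one_ne_zero v1) (S.le_of_g_eq h one_ne_zero v1) v2 v1 s α
  rw [cm, apply_mul, apply_mul, apply_mul, mem_eg_zero.1 (S.le_of_g_eq a2 (fun e => hα (by
    linear_combination -(α + 1) * e)) (sh α v1 v2)), inv_apply_apply, ← x_neg,
    mem_eg_zero.1 (S.le_of_g_eq a2 one_ne_zero v2)] at b1
  rw [← smul_left_injective ℂ hv (b1.symm.trans (one_smul _ v).symm)]
  congr 1; linear_combination α ^ 2 * s ^ 3 * h3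

theorem three_le {α : F} (h0 : α ≠ 0) (hα : α ^ 2 ≠ 1) {l a : F} (ha : a ≠ 0)
    (h : S.FL ρ [9, 11] ⊓ S.E ρ ψ 10 l ⊓ S.E ρ ψ 8 a ≠ ⊥) :
    3 ≤ finrank ℂ ↥(S.FL ρ [9, 11] ⊓ S.E ρ ψ 10 l ⊓ S.E ρ ψ 8 a) := by
  classical
  have k3 : ((3 : ℤ) : F) = 0 := by simpa using h3
  have st : ∀ s, St 3 [9, 11] s → Cm 3 [9, 11] 10 s → Cm 3 [9, 11] 8 s → ∀ t,
      S.x s t ∈ stab ρ (S.FL ρ [9, 11] ⊓ S.E ρ ψ 10 l ⊓ S.E ρ ψ 8 a) := fun s h1 h2 h3 =>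
    S.stab_of_forall fun t v hv => ⟨(S.x_stab_E k3 h1 h2 t).1 v hv.1, S.x_mem_E k3 s t hv.1.1 hv.2 h3⟩
  have s6 := st 6 (by decide) (by decide) (by decide)
  obtain ⟨μ, v, hv, h1⟩ := exists_mem_eg hψ (S.add 6) s6 h
  obtain ⟨t, ht⟩ : ∃ t, a * t - l * t ^ 3 ≠ 0 := by
    by_contra! e
    exact mul_ne_zero (mul_ne_zero ha h0) (sub_ne_zero.2 hα) (by linear_combination e α * -1 + α ^ 3 * e 1)
  have h2 : (2 : F) ≠ 0 := fun e => one_ne_zero (by linear_combination h3 - e : (1 : F) = 0)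
  have := card_mul_le_finrank hψ (S.add 6) s6 (k := 1)
    (s := ({0, t, -t} : Finset F).image fun t => μ + (a * t - l * t ^ 3)) fun m hm => by
      obtain ⟨t, -, rfl⟩ := Finset.mem_image.1 hm
      exact Submodule.one_le_finrank_iff.2 ((Submodule.ne_bot_iff _).2 ⟨ρ (S.x 7 t) v,
        ⟨(st 7 (by decide) (by decide) (by decide) t).1 v hv.1, apply_mem_eg hv.2
          (S.cm67 hv.1.2 (S.mem_E hv.1.1.1) hv.1.1.2 (S.mem_E hv.1.1.1) t)⟩, apply_ne_zero _ h1⟩)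
  rwa [Finset.image_insert, Finset.image_insert, Finset.image_singleton, Finset.card_eq_three.2 ⟨_, _, _,
    fun e => ht (by linear_combination -e), fun e => ht (by linear_combination e),
    fun e => mul_ne_zero h2 ht (by linear_combination e), rfl⟩] at this

theorem eq_bot {α : F} (h0 : α ≠ 0) (hα : α ^ 2 ≠ 1) (h : 2 * S.g ρ ψ [9, 11] 10 < 3 * (Fintype.card F - 1))
    {l a : F} (hl : l ≠ 0) (ha : a ≠ 0) : ∀ v ∈ S.FL ρ [9, 11] ⊓ S.E ρ ψ 10 l ⊓ S.E ρ ψ 8 a, v = 0 := by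
  classical
  intro v hv
  by_contra h1
  have k3 : ((3 : ℤ) : F) = 0 := by simpa using h3
  have a1 := card_mul_le_finrank hψ (S.add 8) (S.x_stab_E k3 (ρ := ρ) (ψ := ψ) (L := [9, 11]) (r := 10) (l := l)
    (by decide) (by decide)) (k := 3) (s := Finset.univ.image fun s : Fˣ => a * s ^ 2) fun m hm => by
      obtain ⟨s, -, rfl⟩ := Finset.mem_image.1 hm
      refine S.three_le hψ h3 h0 hα (by simp [ha]) ((Submodule.ne_bot_iff _).2 ⟨ρ (S.τ (s, s⁻¹ ^ 3)) v,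
        ⟨(S.τ_stab_E fun t => by rw [S.tor]; simp [ra, rb, zpow_ofNat]).1 v hv.1,
          apply_mem_eg_of_conj (S.tor _ 8) (Units.ne_zero _) ?_⟩, apply_ne_zero _ h1⟩)
      convert hv.2
      simp [ra, rb]; field_simp
  have a2 := Finset.card_le_mul_card_image (f := fun s : Fˣ => a * s ^ 2) Finset.univ 2 fun m hm => by
    obtain ⟨s, -, rfl⟩ := Finset.mem_image.1 hm
    refine (Finset.card_le_card (t := {s, -s}) fun y hy => ?_).trans Finset.card_le_two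
    simpa [ha, ← Units.val_inj, sq_eq_sq_iff_eq_or_eq_neg] using hy
  rw [Finset.card_univ, Fintype.card_units] at a2
  rw [S.finrank_eq_g hl] at a1
  omega

theorem count_three {q : ℕ} (hq : Fintype.card F = q + 1) (h0 : 0 < q) : ∃ m r r', S.g ρ ψ [9, 11] 10 = r + q * m ∧
    S.g ρ ψ [9, 11] 8 = r' + q * m ∧ S.g ρ ψ [] 11 = (q + 1) * (r + (q + 2) * q * m) ∧
    S.g ρ ψ [9] 11 = (q + 1) * (r + q * m) ∧
    finrank ℂ V = S.f ρ [9, 11] + q * (q + 1) * (r + r' + (q + 3) * q * m) := by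
  have k3 : ((3 : ℤ) : F) = 0 := by simpa using h3
  have k1 : ((1 : ℤ) : F) ≠ 0 := by simp
  have k2 : ((-2 : ℤ) : F) ≠ 0 := fun e => one_ne_zero (by push_cast at e; linear_combination h3 + e : (1 : F) = 0)
  have a1 := S.f_eq hψ k3 [] 11 (ρ := ρ)
  have a2 := (S.g_eq hψ k3 [] 11 10 6 1 k1).trans (congrArg _ (S.g_sw 6 [10] [11] 11 10 (ρ := ρ)))
  have a3 := S.f_eq hψ k3 [11] 10 (ρ := ρ)
  have a4 := S.f_eq hψ k3 [11] 9 (ρ := ρ)
  have a5 := (S.g_eq hψ k3 [11] 9 8 7 (-2) k2).trans (congrArg _ (S.g_sw 7 [8, 11] [9, 11] 9 8 (ρ := ρ)))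
  have a6 := S.f_eq hψ k3 [9, 11] 8 (ρ := ρ)
  have a7 := S.f_eq hψ k3 [10, 11] 9 (ρ := ρ)
  have a8 := S.g_eq hψ k3 [10, 11] 9 8 7 (-2) k2 (ρ := ρ)
  have b1 := S.f_eq hψ k3 [] 9 (ρ := ρ)
  have b2 := (S.g_eq hψ k3 [] 9 8 7 (-2) k2).trans (congrArg _ (S.g_sw 7 [8] [9] 9 8 (ρ := ρ)))
  have b3 := S.f_eq hψ k3 [9] 8 (ρ := ρ)
  have b4 := S.f_eq hψ k3 [9] 11 (ρ := ρ)
  have b5 := S.g_eq hψ k3 [9] 11 10 6 1 k1 (ρ := ρ)
  have b6 := S.f_eq hψ k3 [9, 11] 10 (ρ := ρ)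
  have b7 := S.f_eq hψ k3 [8, 9] 11 (ρ := ρ)
  have b8 := S.g_eq hψ k3 [8, 9] 11 10 6 1 k1 (ρ := ρ)
  have c1 := S.g_eigen hψ k3 [10, 9] 11 8 (ρ := ρ)
  rw [S.g_sw 6 [10, 9] [9, 11] 11 10] at b5 c1
  rw [S.f_congr [9, 10, 11] [10, 9, 11], a8] at a7
  rw [S.f_congr [11, 8, 9] [8, 9, 11], b8, S.g_congr [10, 8, 9] [8, 10, 9]] at b7
  rw [S.f_congr [11, 9] [9, 11]] at b4
  rw [S.f_nil] at a1 b1
  simp only [hq, Nat.add_sub_cancel] at a1 a2 a3 a4 a5 a6 a7 b1 b2 b3 b4 b5 b6 b7 c1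
  generalize finrank ℂ ↥(S.FL ρ [10, 9] ⊓ _ ⊓ _) = m at c1
  generalize S.g ρ ψ [8, 10, 9] 11 = r at b7 c1
  generalize S.g ρ ψ [8, 10, 11] 9 = r' at a7
  have d1 : S.g ρ ψ [9, 11] 8 = r' + q * m := by
    refine Nat.eq_of_mul_eq_mul_left (show 0 < q * (q + 1) ^ 2 by positivity) ?_
    zify at *
    linear_combination (a1 - b1) * -1 + q * (b2 - a2) + (q + 2) * (b4 - a4) + (q + 1) * (a3 + a7 - b3 - b7 + a6 - b6) +
      q * (q + 2) * (b5 - a5) + q * (q + 1) ^ 2 * c1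
  have d2 : S.g ρ ψ [11] 10 = r + q * m + (q + 1) * (q * m) := by
    refine Nat.eq_of_mul_eq_mul_left h0 ?_
    zify at *
    linear_combination a4 - a3 - a7 + b6 + q * a5 + q * c1 + q * (q + 1) * d1
  exact ⟨m, r, r', c1, d1, by rw [a2, d2]; ring, by rw [b5, c1], by rw [a1, a2, d2, a4, a5, d1]; ring⟩

omit h3 in
theorem dvd_G2 [Finite G] [ρ.IsIrreducible] {q : ℕ} (hq : Fintype.card F = q + 1) (h0 : 0 < q)
    (hτ : Function.Injective S.τ) (hG : Nat.card G = (q + 1) ^ 6 * ((q + 1) ^ 2 - 1) * ((q + 1) ^ 6 - 1)) :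
    finrank ℂ V ∣ S.g ρ ψ [] 11 * (q + 1) ^ 7 * ((q + 1 + 1) * ((q + 1) ^ 6 - 1)) := by
  have a1 := S.f_eq hψ Int.cast_zero [] 11 (ρ := ρ)
  have f1 := dvd_index (ρ := ρ) (P := S.τ.range) (Z := (addHom (S.add 11)).range) (by
    rintro _ ⟨p, rfl⟩ _ ⟨t, rfl⟩
    exact ⟨_, (S.tor p 11 _).symm⟩)
  have f2 := df_top_add (fx ρ (addHom (S.add 11)).range)
  rw [show fx ρ (addHom (S.add 11)).range = S.FL ρ [11] from Submodule.ext fun v =>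
    ⟨fun h _ ⟨_, hr, t, e⟩ => h _ ⟨t, by rw [e, List.mem_singleton.1 hr]; rfl⟩,
      fun h _ ⟨t, e⟩ => h _ ⟨11, by simp, t, e.symm⟩⟩] at f1 f2
  have f3 := Subgroup.card_range_dvd (addHom (S.add 11))
  have f4 := S.τ.range.index_mul_card
  rw [← Nat.card_congr (S.τ.ofInjective hτ).toEquiv, Nat.card_prod, Nat.card_units, Nat.card_eq_fintype_card, hq,
    hG, Nat.add_sub_cancel] at f4
  rw [Nat.card_congr Multiplicative.toAdd, Nat.card_eq_fintype_card (α := F), hq] at f3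
  rw [← f, ← S.f_nil, a1, add_comm, add_right_inj, hq, Nat.add_sub_cancel] at f2
  have f6 : S.τ.range.index * q = (q + 1) ^ 6 * ((q + 1 + 1) * ((q + 1) ^ 6 - 1)) := by
    refine Nat.eq_of_mul_eq_mul_right h0 ?_
    rw [mul_assoc, f4, show (q + 1) ^ 2 - 1 = (q + 1 + 1) * q from Nat.sub_eq_of_eq_add (by ring)]; ring
  refine (f1.trans (mul_dvd_mul_right (mul_dvd_mul_left _ f3) _)).trans (dvd_of_eq ?_)
  rw [f2, pow_succ' _ 6, mul_assoc (S.g ρ ψ [] 11), mul_assoc (q + 1), ← f6]; ring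

theorem bound_three [Finite G] [ρ.IsIrreducible] {q : ℕ} (hq : Fintype.card F = q + 1) (h8 : 8 ≤ q)
    (hτ : Function.Injective S.τ) (hG : Nat.card G = (q + 1) ^ 6 * ((q + 1) ^ 2 - 1) * ((q + 1) ^ 6 - 1))
    (hV : S.FL ρ [11] ≠ ⊤) : (q + 1) ^ 4 + (q + 1) ^ 2 + 1 ≤ finrank ℂ V := by
  have k3 : ((3 : ℤ) : F) = 0 := by simpa using h3
  obtain ⟨α, hα⟩ := exists_pow_ne_one_of_isCyclic (G := Fˣ) two_ne_zero (by
    rw [Nat.card_units, Nat.card_eq_fintype_card, hq]; omega)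
  have hα' : (α : F) ^ 2 ≠ 1 := fun e => hα (Units.ext e)
  obtain ⟨m, r, r', c1, d1, a2, b5, a0⟩ := S.count_three (ρ := ρ) hψ h3 hq (by omega)
  have a1 := S.f_eq hψ k3 [] 11 (ρ := ρ)
  have b6 := S.f_eq hψ k3 [9, 11] 10 (ρ := ρ)
  have c2 := S.f_eq hψ k3 [10, 9, 11] 8 (ρ := ρ)
  have c3 := S.f_eq hψ k3 [8, 10, 9, 11] 7 (ρ := ρ)
  have c4 := S.f_eq hψ k3 [7, 8, 10, 9, 11] 6 (ρ := ρ)
  have c5 : S.f ρ [11] < finrank ℂ V := Submodule.finrank_lt hV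
  have f7 := S.dvd_G2 (ρ := ρ) hψ hq (by omega) hτ hG
  rw [hq, Nat.add_sub_cancel] at b6 c2 c3 c4
  obtain rfl | hm | rfl : m = 0 ∨ 2 ≤ m ∨ m = 1 := by omega
  · rw [S.g_ne hψ h3 α.ne_zero hα' (by rw [a2, b5]; simp), S.f_nil] at a1
    omega
  · obtain ⟨m, rfl⟩ := Nat.exists_eq_add_of_le hm
    obtain ⟨q, rfl⟩ := Nat.exists_eq_add_of_le h8
    rw [a0]; ring_nf; omega
  obtain hr | hr := le_or_gt 4 (r + r')
  · obtain ⟨k, hk⟩ := Nat.exists_eq_add_of_le hr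
    obtain ⟨q, rfl⟩ := Nat.exists_eq_add_of_le h8
    rw [a0, hk, b6, c1]; ring_nf; omega
  have e0 := fun l a => S.eq_bot (ρ := ρ) (l := l) (a := a) hψ h3 α.ne_zero hα' (by rw [c1, hq]; omega)
  have e1 := S.g_cons (le_eg_zero hψ (S.add 8) (S.x_stab_E k3 (by decide) (by decide)) fun a => e0 1 a one_ne_zero)
  have e2 := S.g_cons (le_eg_zero hψ (S.add 10) (S.x_stab_E k3 (L := [9, 11]) (r := 8) (by decide) (by decide))
    fun l hl v hv => e0 l 1 hl one_ne_zero v ⟨⟨hv.1.1, hv.2⟩, hv.1.2⟩)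
  have e3 := finrank_shift hψ (S.add 6) (S.x_stab_E k3 (ρ := ρ) (ψ := ψ) (L := [8, 9, 11]) (r := 10) (l := 1)
    (by decide) (by decide)) fun δ => (cube_surj h3 (-δ)).elim fun t ht => ⟨S.x 7 t, fun l v hv =>
      ⟨(S.x_stab_E k3 (by decide) (by decide) t).1 v hv.1, apply_mem_eg hv.2 fun u => by
        rw [S.cm67 (S.mem_E hv.1.1) (S.mem_E hv.1.1) hv.1.2 (S.mem_E hv.1.1), ht]; simp⟩⟩
  have e4 := finrank_shift hψ (S.add 7) (S.x_stab_E k3 (ρ := ρ) (ψ := ψ) (L := [10, 9, 11]) (r := 8) (l := 1)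
    (by decide) (by decide)) fun δ => ⟨S.x 6 (-δ), fun l v hv =>
      ⟨(S.x_stab_E k3 (by decide) (by decide) _).1 v hv.1, apply_mem_eg hv.2 fun u => by
        rw [S.cm76 hv.1.2 (S.mem_E hv.1.1) (S.mem_E hv.1.1) (S.mem_E hv.1.1)]; simp⟩⟩
  rw [inf_right_comm, ← S.FL_cons, ← g, ← g, hq] at e3 e4
  rw [e1, c1, S.g_sw 7 _ [8, 10, 9, 11] 10 6] at e3
  rw [e2, d1, S.g_sw 6 _ [8, 10, 9, 11] 8 7] at e4
  have key : ∀ {r k : ℕ}, r < 4 → r + q * 1 = (q + 1) * k → r = 1 ∧ k = 1 := fun {r k} h e => by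
    obtain rfl | rfl | h : k = 0 ∨ k = 1 ∨ 2 ≤ k := by omega
    · omega
    · omega
    · nlinarith
  obtain ⟨rfl, e5⟩ := key (by omega) e3
  obtain ⟨rfl, e6⟩ := key (by omega) e4
  obtain ⟨w, -, e⟩ := exists_span_of_finrank_eq_one e5
  have e7 := S.g_cons (r := 7) (e ▸ (Submodule.span_singleton_le_iff_mem _ _).2 (mem_eg_of_line (ψ := ψ) (S.add 7)
    (fun e => hα (by rw [show α = 1 by simpa [ra] using e, one_pow])) (S.tor (α, 1) 7)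
    (e ▸ S.τ_stab_E fun t => by rw [S.tor]; simp [ra]) (e ▸ S.x_stab_E k3 (by decide) (by decide))))
  rw [a2, show (q + 1) * (1 + (q + 2) * q * 1) * (q + 1) ^ 7 = (q + 1) ^ 10 by ring] at f7
  by_contra! h
  refine not_dvd_G2 (x := q + 1) (d := finrank ℂ V) (by omega) ?_ ?_ (by exact_mod_cast Nat.le_of_lt_succ h) (by
    simpa [Nat.cast_sub (Nat.one_le_pow 6 (q + 1) q.succ_pos)] using Int.natCast_dvd_natCast.2 f7)
  · exact_mod_cast hq ▸ Nat.odd_iff.2 (FiniteField.odd_card_of_char_ne_two fun e => one_ne_zero (by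
      have := ringChar.Nat.cast_ringChar (R := F)
      rw [e] at this
      push_cast at this
      linear_combination h3 - this : (1 : F) = 0))
  · rw [a0, b6, c1, c2, c3, c4, e2, d1, e6, e7, e5]
    push_cast; nlinarith [Nat.cast_nonneg (α := ℤ) (S.f ρ [6, 7, 8, 10, 9, 11])]

end GS

end CfsgLib.MinDeg
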