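import Mathlib
import Cfsg.Agent.Lib.MinDeg.G2c
import Cfsg.Agent.Lib.Stein.B2
import Cfsg.Agent.Lib.Stein.Graph
import Cfsg.Agent.Lib.Semi.G2
import Cfsg.Agent.Lib.LS.Siegel

/-!
# The Chevalley group `G₂(q)` as a `GS`
-/

set_option autoImplicit false

namespace CfsgLib.MinDeg

open Module CfsgLib.Stein CfsgLib.RGD CfsgLib.Lang CfsgLib.Chev CfsgLib.Weyl CfsgLib.Semi Cfsg.Lie

theorem tbl_eq : ∀ a b : Fin 12, a ≠ b → a ≠ b.rev → a.1 ≠ b.1 ∧ a.1 ≠ chevG2.neg b ∧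
    chevG2.commTerms b a = (tbl a b).map fun e => (e.1.1, e.2) := by decide +kernel

theorem rf_eq : ∀ r : Fin 12, ΦG2.neg r = r.rev ∧ ΦG2.rt r 0 = ra r ∧ ΦG2.rt r 1 = rb r ∧
    ∃ L ∈ [[], [0], [1], [0, 1], [1, 0], [0, 1, 0], [1, 0, 1], [0, 1, 0, 1], [1, 0, 1, 0], [0, 1, 0, 1, 0],
      [1, 0, 1, 0, 1]], ∃ i, ΦG2.wprod L (ΦG2.simple i) = r ∧
        ∀ s, ΦG2.wprod L (ΦG2.s i s) = rf r (ΦG2.wprod L s) := by decide +kernel

/-- a system of root elements of type `G₂` with the commutator formula -/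
def gsOf {F G : Type*} [Field F] [Group G] (S : StSys ΦG2 F G) (τ : (Fin 2 → Fˣ) →* G)
    (h1 : ∀ c r t, τ c * S.x r t * (τ c)⁻¹ = S.x r (ΦG2.chr c r * t))
    (h2 : ∀ a b, a ≠ b → a ≠ b.rev → ∀ t u, cm (S.x a t) (S.x b u) =
      ((tbl a b).map fun e => S.x e.1 (e.2.1 * (-u) ^ e.2.2.1 * t ^ e.2.2.2)).prod) : GS F G where
  x := S.x
  τ := τ.comp (MonoidHom.mk' (fun c => ![c.1, c.2]) fun a b => by ext i; fin_cases i <;> rfl)
  add := S.x_add
  comm := h2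
  tor c r t := (h1 _ r t).trans (by simp [RootSys.chr, (rf_eq r).2.1, (rf_eq r).2.2.1])
  nn r s := by
    obtain ⟨e, -, -, L, -, i, rfl, h⟩ := rf_eq r
    obtain ⟨l, hl, h'⟩ := (S.acts_n (ΦG2.wprod_mem_W L) i one_ne_zero).exists_conj_x s
    refine ⟨l, hl, fun t => ?_⟩
    simpa [StSys.n, e, h] using h' t

variable (F : Type*) [Field F] [Fintype F] [Good chevG2]

/-- the Chevalley group of type `G₂` -/
noncomputable def gsG2 : GS F (chevG2.group F) :=
  gsOf (gSys F rtOKG2 genOKG2) ((tau chevG2 F).codRestrict _ fun c => by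
      have := tau_mem_G2 c
      rw [← stSys_H rtOKG2] at this
      exact stSys_grp (F := F) rtOKG2 ▸ StSys.H_le_grp _ this)
    (fun c r t => Subtype.ext ((isTor_tau rtOKG2).conj c r t)) fun a b h1 h2 t u => by
      obtain ⟨k1, k2, k3⟩ := tbl_eq a b h1 h2
      rw [gSys_cm rtOKG2 genOKG2 k1 k2, ChevalleyDatum.commWord, k3, wordG, List.map_map, List.map_map]
      rfl

omit [Good chevG2] in
theorem finalG2 {V : Type*} [AddCommGroup V] [Module ℂ V] [FiniteDimensional ℂ V] (ρ : Representation ℂ (chevG2.group F) V)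
    [ρ.IsIrreducible] (hV : 2 ≤ finrank ℂ V) {q : ℕ} (hq : Fintype.card F = q + 1) (h4 : 3 < q) :
    (¬ 3 ∣ q + 1 → (q + 1) ^ 3 ≤ finrank ℂ V + 1 ∧ (3 ∣ q → (q + 1) ^ 3 + 1 ≤ finrank ℂ V)) ∧
      (3 ∣ q + 1 → (q + 1) ^ 4 + (q + 1) ^ 2 + 1 ≤ finrank ℂ V) := by
  have := good_of_mem hmG2
  obtain ⟨α, hα⟩ := exists_pow_ne_one_of_isCyclic (G := Fˣ) one_ne_zero (by
    rw [Nat.card_units, Nat.card_eq_fintype_card, hq]; omega)
  have := isSimpleGroup_G2 (F := F) ⟨α, α.ne_zero, by simpa using hα⟩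
  have hψ := AddChar.FiniteField.primitiveChar_to_Complex_isPrimitive F
  have h1 : (gsG2 F).FL ρ [11] ≠ ⊤ := fun e => by
    refine LS.ker_ne_top_of_irreducible ρ ‹_› hV ((Subgroup.Normal.eq_bot_or_eq_top inferInstance).resolve_left
      fun e' => one_ne_zero ((gSys_nondeg (K := F) rtOKG2 genOKG2).x_injective (11 : Fin 12)
        ((Subgroup.mem_bot.1 (e' ▸ ?_)).trans (StSys.x_zero _ _).symm)))
    exact LinearMap.ext fun v => (gsG2 F).mem_FL.1 (e.ge Submodule.mem_top) 11 (by simp) 1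
  have h2 : (3 : F) = 0 ↔ 3 ∣ q + 1 := by
    rw [← hq, ← prime_dvd_char_iff_dvd_card 3, ← Nat.cast_ofNat, ringChar.spec]
    exact (Nat.prime_dvd_prime_iff_eq (CharP.char_is_prime F _) Nat.prime_three).trans
      ((Nat.prime_dvd_prime_iff_eq Nat.prime_three (CharP.char_is_prime F _)).trans eq_comm).symm
  refine ⟨fun h => (gsG2 F).bound_ne_three hψ (mt h2.1 h) hq h4 h1, fun h => (gsG2 F).bound_three hψ (h2.2 h) hq ?_
    (fun a b e => by
      have := (isTor_tau rtOKG2).inj (stSys_nondeg rtOKG2) (congrArg Subtype.val e)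
      exact Prod.ext (congrFun this (0 : Fin 2)) (congrFun this (1 : Fin 2))) (card_G2 F hq) h1⟩
  have := FiniteField.odd_card_of_char_ne_two (F := F) fun e => one_ne_zero (by
    have := ringChar.Nat.cast_ringChar (R := F)
    rw [e] at this
    push_cast at this
    linear_combination h2.2 h - this : (1 : F) = 0)
  omega

end CfsgLib.MinDeg
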