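import Mathlib
import Cfsg.Agent.Lib.MinDeg.Tab
import Cfsg.Agent.Lib.Twist.D4

/-!
# Small representations of `³D₄(q)`
-/

set_option autoImplicit false

namespace CfsgLib.MinDeg

open Cfsg.Lie CfsgLib.RGD CfsgLib.Twist CfsgLib.Stein CfsgLib.Weyl CfsgLib.Chev Module

section Abstract

variable {ι κ B : Type} [Fintype κ] [DecidableEq κ] {Φ : RootSys ι κ}
  {F : Type*} [Field F] {G : Type*} [Group G] {S : StSys Φ F G} {M : Subgroup G}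
  {V : Type*} [AddCommGroup V] [Module ℂ V] {ρ : Representation ℂ M V}

theorem of_card_two {H : Type*} [Group H] {σ : Representation ℂ H V} {Y : Subgroup H} (hY : Nat.card Y = 2) {z : H}
    (hz : z ∈ Y) (h1 : z ≠ 1) :
    (∀ v, σ z v = v → v ∈ fx σ Y) ∧ ∀ w, Y ≤ stab σ (ℂ ∙ w) → w ∉ fx σ Y → σ z w = -w := by
  obtain ⟨y, -, hy⟩ := (Nat.card_eq_two_iff' (1 : Y)).1 hY
  have k : ∀ a ∈ Y, a = 1 ∨ a = z := fun a ha => or_iff_not_imp_left.2 fun e => congrArg Subtype.val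
    ((hy ⟨a, ha⟩ fun e' => e (congrArg Subtype.val e')).trans (hy ⟨z, hz⟩ fun e' => h1 (congrArg Subtype.val e')).symm)
  have k1 : ∀ v, σ z v = v → v ∈ fx σ Y := fun v hv a ha => by rcases k a ha with rfl | rfl <;> simp [hv]
  refine ⟨k1, fun w hw h => ?_⟩
  obtain ⟨c, hc⟩ := exists_smul_of_mem_stab (hw hz)
  have h2 := apply_inv_apply (ρ := σ) z w
  rw [(k _ (inv_mem hz)).resolve_left (by simpa using h1), hc, map_smul, hc, smul_smul] at h2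
  rcases mul_self_eq_one_iff.1 (smul_left_injective ℂ (fun e => h (by simp [e])) (h2.trans (one_smul _ w).symm))
    with rfl | rfl
  · exact absurd (k1 w (by simpa using hc)) h
  · simpa using hc

theorem closed_ht {n : ℤ} (hn : 0 < n) : Φ.Closed {r | n ≤ Φ.ht r} := fun r hr s hs k hk => by
  simp only [Set.mem_ofPred_eq] at *
  have := hk.ht_le (pos_iff_ht.2 (by omega)) (pos_iff_ht.2 (by omega))
  omega

theorem stab_ht [Finite G] {n : ℤ} (hn : 0 < n) : YY S M {r | Φ.Pos r} ≤ stab ρ (FF S ρ {r | n ≤ Φ.ht r}) :=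
  stab_UU fun r hr s hs => by
    simp only [Set.mem_ofPred_eq] at *
    refine ⟨Φ.ne_neg_of_pos hr (pos_iff_ht.2 (by omega)), fun k hk => ?_⟩
    have := hk.ht_le hr (pos_iff_ht.2 (by omega))
    have := Φ.ht_pos hr
    omega

theorem df_le_of_acts [FiniteDimensional ℂ V] {n : G} (hn : n ∈ M) {w : Equiv.Perm ι} (hw : w ∈ Φ.W) (ha : S.Acts n w)
    {a b c a' b' c' : ι} (h1 : w a = a') (h2 : w b = b') (h3 : w c = c') :
    df (FF S ρ {a} ⊓ FF S ρ {b}) (FF S ρ {c}) ≤ df (FF S ρ {a'} ⊓ FF S ρ {b'}) (FF S ρ {c'}) :=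
  df_le_of_apply (ρ := ρ) ⟨n, hn⟩ (fun _ hv => ⟨apply_mem_FF_of_acts hw ha (by rintro _ rfl; simp [← h1]) hv.1,
    apply_mem_FF_of_acts hw ha (by rintro _ rfl; simp [← h2]) hv.2⟩)
    fun _ => inv_apply_mem_FF_of_acts ha (by rintro _ rfl; exact h3)

variable [Finite ι] {T : Tw S B} {φ : F →+* F} {k q : ℕ} (h : LT T M φ k q)
include h

theorem LT.kill {r : ι} (hr : Φ.Pos r) {g : M} {μ : F} (hμ : μ ≠ 1)
    (hg : ∀ t, g * S.x r t * (g : G)⁻¹ = S.x r (μ * t)) {w : V} (h1 : g ∈ stab ρ (ℂ ∙ w))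
    (h2 : YY S M (orb T.toSym r) ≤ stab ρ (ℂ ∙ w)) : w ∈ FF S ρ (orb T.toSym r) := fun z hz => by
  obtain ⟨v, e⟩ := h.exists_Nm hr hz (h.tw.le_fix z.2)
  obtain ⟨s, rfl⟩ : ∃ s, v = μ * s + -s := ⟨v / (μ - 1), by have := sub_ne_zero.2 hμ; field_simp; ring⟩
  have := h.Nm_conj (h.stb_orb r) (h.tw.le_fix g⁻¹.2) (S.x_mem_grp r s) (S.x_mem_UU (mem_orb_self _ r) (μ * s + -s))
    (fun y hy => h.commute_orb (S.x_mem_UU (mem_orb_self _ r) s) hy) (by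
      rw [S.x_add, S.x_neg, ← hg, Subgroup.coe_inv]; group) k
  have h3 := comm_mem_fixer (inv_mem h1) (inv_mem (h2 (x := ⟨_, h.Nm_x_mem_M r s⟩) (h.Nm_x_mem r s)))
  rw [← e, ← inv_mul_eq_iff_eq_mul] at this
  rwa [show g⁻¹⁻¹ * (⟨_, h.Nm_x_mem_M r s⟩ : M)⁻¹⁻¹ * g⁻¹ * (⟨_, h.Nm_x_mem_M r s⟩ : M)⁻¹ = z from
    Subtype.ext (Eq.trans (by simp [mul_assoc]) this)] at h3

theorem LT.notMem_cm {a b c d : κ} {ab ac ad abc abd acd abcd : ι} {Ψ : Set ι} (hc : Φ.Closed Ψ) (hp : ∀ r ∈ Ψ, Φ.Pos r)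
    (h1 : RAdd Φ (Φ.simple a) (Φ.simple b) ab) (h2 : RAdd Φ (Φ.simple a) (Φ.simple c) ac)
    (h3 : RAdd Φ (Φ.simple a) (Φ.simple d) ad) (h4 : RAdd Φ ab (Φ.simple c) abc) (h5 : RAdd Φ ab (Φ.simple d) abd)
    (h6 : RAdd Φ ac (Φ.simple d) acd) (h7 : RAdd Φ abc (Φ.simple d) abcd) (h0 : Φ.Pos abcd)
    (hΨ : (ab ∈ Ψ ∧ ac ∈ Ψ ∧ ad ∈ Ψ ∧ abc ∈ Ψ ∧ abd ∈ Ψ ∧ acd ∈ Ψ) ∧ abcd ∉ Ψ) :
    cm (S.x (Φ.simple a) 1) (S.x (Φ.simple b) 1 * S.x (Φ.simple c) 1 * S.x (Φ.simple d) 1) ∈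
      (S.UU (Ψ ∪ {abcd}) \ S.UU Ψ : Set G) := by
  obtain ⟨⟨m1, m2, m3, m4, m5, m6⟩, m7⟩ := hΨ
  have E := fun {a b r} (e : RAdd Φ a b r) => h.laced.ex h.nondeg e 1 one_ne_zero
  obtain ⟨l1, k1, e1⟩ := E h1
  obtain ⟨l2, -, e2⟩ := E h2
  obtain ⟨l3, -, e3⟩ := E h3
  obtain ⟨l4, k4, e4⟩ := E h4
  obtain ⟨l5, -, e5⟩ := E h5
  obtain ⟨l6, -, e6⟩ := E h6
  obtain ⟨l7, k7, e7⟩ := E h7
  have k := mul_mem (mul_mem (mul_mem (mul_mem (mul_mem (S.x_mem_UU m3 (l3 * 1)) (S.x_mem_UU m2 (l2 * 1)))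
    (S.x_mem_UU m6 (l6 * (l2 * 1)))) (S.x_mem_UU m1 (l1 * 1))) (S.x_mem_UU m5 (l5 * (l1 * 1))))
    (S.x_mem_UU m4 (l4 * (l1 * 1)))
  rw [show cm (S.x (Φ.simple a) 1) (S.x (Φ.simple b) 1 * S.x (Φ.simple c) 1 * S.x (Φ.simple d) 1) =
    S.x ad (l3 * 1) * S.x ac (l2 * 1) * S.x acd (l6 * (l2 * 1)) * S.x ab (l1 * 1) * S.x abd (l5 * (l1 * 1)) *
      S.x abc (l4 * (l1 * 1)) * S.x abcd (l7 * (l4 * (l1 * 1))) by
    rw [← e7, ← e6, ← e5, ← e4, ← e3, ← e2, ← e1]; unfold cm; group]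
  exact ⟨mul_mem (S.UU_mono Set.subset_union_left k) (S.x_mem_UU (Or.inr rfl) _), fun e => by
    simpa [k1, k4, k7] using h.nondeg.eq_zero_of_mem_UU hc hp h0 m7 ((mul_mem_cancel_left k).1 e)⟩

theorem LT.main' [Finite G] [Finite F] [FiniteDimensional ℂ V] {θ : ι} {i₀ : κ} (hθ : Top T.toSym θ i₀)
    [IsSimpleGroup M] [ρ.IsIrreducible] (hV : 2 ≤ finrank ℂ V) {γ : ι} (hγ : Φ.s i₀ θ = γ) {n : ℤ} (hn : 0 < n)
    (e3 : ({θ} ∪ {γ} : Set ι) = {r | n ≤ Φ.ht r})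
    (hP : ∀ ψ w, Line S ρ i₀ ψ w → 0 < df (FF S ρ {θ} ⊓ FF S ρ {γ}) (FF S ρ {Φ.simple i₀}))
    {L : List ι} (hL : L.Nodup) (hm : ∀ γ, γ ∈ L ↔ T.ρ γ = γ) {E : List ℕ} {a : ℕ} (ha : (Φ.ht θ - 1).toNat = a + 1)
    (hE : (L.map fun γ => (Φ.ht θ - Φ.ht γ - if 0 < Φ.ht γ then 0 else 1).toNat) = E) :
    2 * (q ^ (a + 1) * (q - 1) * (q + 1)) ≤ q * finrank ℂ V ∨ ((q - 1) * ([a + 1, a, 0].map (q ^ ·)).sum ≤ finrank ℂ V ∧
      finrank ℂ V ∣ (E.map (q ^ ·)).sum * q * (q ^ (a + 1) * (q - 1))) := by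
  have f0 := simple_fixed hθ.π₀
  have f1 : T.ρ γ = γ := hγ ▸ fixed_apply (s_mem_W1 hθ.π₀) hθ.fix
  have hp : ∀ r ∈ ({θ} ∪ {γ} : Set ι), Φ.Pos r := e3 ▸ fun r hr => pos_iff_ht.2 (lt_of_lt_of_le hn hr)
  obtain ⟨ψ, hψ⟩ := h.exists_char hθ f0 (Φ.pos_simple _)
  have h1 := h.df_top (ρ := ρ) hθ hψ
  have h2 := h.df_top_pos (ρ := ρ) hθ hV
  have h3 := h.dvd_top (ρ := ρ) hθ hL hm hE
  rw [ha] at h1
  obtain ⟨n, -, hn', ha⟩ := h.tw.exists_acts (s_mem_W1 hθ.π₀)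
  obtain ⟨a1, -⟩ := h.df_A2 (ρ := ρ) (W := ⊤) hθ hθ.fix (β := Φ.neg (Φ.simple i₀)) (by rw [T.ρ_neg, f0]) f1 hθ.pos
    (hp _ (Or.inr rfl)) (fun j => by rw [← hγ, Φ.rt_s, Φ.rt_neg, Φ.rt_simple, hθ.wt₀]; split_ifs <;> simp [sub_eq_add_neg])
    (fun g _ => mem_stab_top g) (fun g _ => mem_stab_top g) (fun g _ => mem_stab_top g)
    (mem_stab_top ⟨n, hn'⟩) (Φ.s_mem_W _) ha hγ
  have a0 := h.df_top_eq (ρ := ρ) hθ f0
  rw [h.df_top_eq hθ f1, top_inf_eq] at a1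
  have a2 := df_top_add (FF S ρ {θ})
  have a3 := df_add (FF S ρ {θ}) (FF S ρ {γ})
  have hq := h.two_le
  generalize hm : finrank ℂ ↥(FF S ρ (Lam Φ i₀) ⊓ _) = m at h1
  obtain h4 | rfl : 2 ≤ m ∨ m = 1 := by
    have := Nat.pos_of_mul_pos_left (Nat.pos_of_mul_pos_left (h1 ▸ h2)); omega
  · left
    have a4 := Nat.mul_le_mul_left (q ^ (a + 1) * (q - 1)) h4
    rw [mul_assoc _ _ m, ← h1] at a4
    nlinarith [Nat.zero_le (q * finrank ℂ ↥(FF S ρ {θ} ⊓ FF S ρ {γ}))]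
  obtain ⟨w, hw, e⟩ := exists_span_of_finrank_eq_one hm
  have a5 := h.le_df hθ f0 (Φ.pos_simple _) (by
    rw [← h.FF_union hp (e3 ▸ closed_ht hn) (stb_single hθ.fix) (stb_single f1), e3]
    exact (YY_mono (by rintro _ rfl; exact Φ.pos_simple _)).trans (stab_ht hn))
    (fun g hg => mem_stab_inf (stab_H _ hg) (stab_H _ hg)) (hP ψ w ⟨hψ, hw, e⟩)
  have a6 := df_add (FF S ρ {θ} ⊓ FF S ρ {γ}) (FF S ρ {Φ.simple i₀})
  rw [h1, mul_one] at h3 a0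
  rw [← a0, pow_succ', mul_assoc] at a1
  have a7 := Nat.eq_of_mul_eq_mul_left (by omega) a1
  refine Or.inr ⟨?_, h3⟩
  simp only [List.map, List.sum_cons, List.sum_nil]
  nlinarith

end Abstract

/-- tables for `³D₄` -/
def tbD4 : Tb := ⟨tAD4, tSD4, tTD4, 0x69686767666567666665656563636362626163626161605f, actT tRhoD4 0, actT tPiD4 0,
  actT tOrbD4 0, actT tSwD4⟩

theorem fitD4 : tbD4.Fit rtOKD4 symD4 :=
  ⟨⟨_, tablesOKD4⟩, by decide +kernel, fun _ => rfl, fun _ => rfl, fun _ => rfl, swD4⟩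

theorem topD4 : Top symD4 (rtD4 23) (ndD4 1) := fitD4.top (by decide +kernel)

instance {D : ChevalleyDatum} (h : RtOK D) (a b r : Fin D.nroots) : Decidable (RAdd (rootSys h) a b r) :=
  inferInstanceAs (Decidable (∀ j : Fin D.rank, rt D r j = rt D a j + rt D b j))

variable {K : Type*} [Field K] [Fintype K] {q : ℕ} {φ : K →+* K} (hφ : ∀ t, φ t = t ^ q) (hK : Fintype.card K = q ^ 3)
  {V : Type*} [AddCommGroup V] [Module ℂ V] [FiniteDimensional ℂ V] {ρ : Representation ℂ (twistedD4 K q) V}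
include hφ hK

theorem ltD4 : LT (twD4 φ) (twistedD4 K q) φ 3 q :=
  Tb.Fit.lt (T := twD4 φ) fitD4 (isTwD4 hφ (frob3 hφ hK)) (fitD4.laced (by decide +kernel)) (fun _ => rfl)
    (by simp) hφ (by simp [hK]) (by decide +kernel)

theorem torD4 {d : K} (hd : d ≠ 0) : ∃ g : twistedD4 K q, (g : GL chevD4.Idx K) ∈ (stSys rtOKD4 K).H ∧
    ∀ r μ, (r = rtD4 14 ∧ μ = 1 ∨ r = rtD4 21 ∧ μ = φ d ^ 2 ∨ r = rtD4 22 ∧ μ = d * φ d * φ (φ d)) →
      ∀ t, g * (stSys rtOKD4 K).x r t * (g : GL chevD4.Idx K)⁻¹ = (stSys rtOKD4 K).x r (μ * t) := by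
  have h3 := frob3 hφ hK
  have hM := isTwD4 hφ h3
  have h1 := (map_ne_zero φ).2 hd
  have h2 := (map_ne_zero φ).2 h1
  have k1 : d * φ d ≠ 0 := by simp [*]
  have k2 : d * φ d * φ (φ d) ≠ 0 := by simp [*]
  have k3 := (map_ne_zero φ).2 k1
  have k4 := (map_ne_zero φ).2 k3
  refine ⟨⟨_, mul_mem ((twD4 φ).triple_h_mem piD4.1 piD4.2.2.1 piD4.2.2.2 orthD4_02 orthD4_03 orthD4_23 h3 hM
    (d * φ d)) ((twD4 φ).single_h_mem piD4.2.1 hM (c := d * φ d * φ (φ d)) (by simp only [twD4_f, map_mul, h3]; ring))⟩,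
    mul_mem (mul_mem (mul_mem (h_mem_H _ _ k1) (h_mem_H _ _ k3)) (h_mem_H _ _ k4)) (h_mem_H _ _ k2), fun r μ e t => ?_⟩
  have e1 := hM.sharp.h3_conj (ndD4 0) (ndD4 2) (ndD4 3) k1 k3 k4 r
  have e2 := hM.sharp.h_conj (ndD4 1) _ k2 r t
  have w : ∀ i r, (rootSys rtOKD4).wt i r = coT tAD4 r i := fitD4.wt
  rw [show μ = (d * φ d) ^ (rootSys rtOKD4).wt (ndD4 0) r * φ (d * φ d) ^ (rootSys rtOKD4).wt (ndD4 2) r *
    φ (φ (d * φ d)) ^ (rootSys rtOKD4).wt (ndD4 3) r * (d * φ d * φ (φ d)) ^ (rootSys rtOKD4).wt (ndD4 1) r by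
      simp only [w, map_mul, h3]
      rcases e with ⟨rfl, rfl⟩ | ⟨rfl, rfl⟩ | ⟨rfl, rfl⟩
      · change _ = _ ^ (-1 : ℤ) * _ ^ (-1 : ℤ) * _ ^ (-1 : ℤ) * _ ^ (2 : ℤ); field_simp
      · change _ = _ ^ (1 : ℤ) * _ ^ (1 : ℤ) * _ ^ (-1 : ℤ) * _ ^ (0 : ℤ); field_simp
      · change _ = _ ^ (1 : ℤ) * _ ^ (1 : ℤ) * _ ^ (1 : ℤ) * _ ^ (-1 : ℤ); field_simp, mul_assoc _ _ t, ← e1, ← e2]
  simp only [twD4_f]; group

theorem df_posD4 {ψ : AddChar (EE (stSys rtOKD4 K) (twistedD4 K q) (rtD4 14)) ℂ} {w : V}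
    (hw : Line (stSys rtOKD4 K) ρ (ndD4 1) ψ w) :
    0 < df (FF (stSys rtOKD4 K) ρ {rtD4 23} ⊓ FF (stSys rtOKD4 K) ρ {rtD4 22}) (FF (stSys rtOKD4 K) ρ {rtD4 14}) := by
  have h := ltD4 hφ hK
  have hL := h.laced
  have hq := h.two_le
  have ip := fitD4.ip
  have pos : ∀ r : Fin 24, 12 ≤ r.1 → (rootSys rtOKD4).Pos (rtD4 r) := fun r hr =>
    (pos_iff_le _).2 (show 24 ≤ 2 * r.1 by omega)
  have f22 : (twD4 φ).ρ (rtD4 22) = rtD4 22 := show symD4.ρ _ = _ by decide +kernel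
  have f14 : (twD4 φ).ρ (rtD4 14) = rtD4 14 := show symD4.ρ _ = _ by decide +kernel
  have tor := fun {d : K} (hd : d ≠ 0) => (torD4 hφ hK hd).imp fun g hg => And.intro hg.2 (hw.mem_stab hw.mem.1
    (fun y hy => StSys.H_inv_conj_mem_UU _ hg.1 hy) fun t => by
      have := hg.2 _ 1 (Or.inl ⟨rfl, rfl⟩) t
      rw [one_mul, mul_inv_eq_iff_eq_mul] at this
      rw [mul_assoc, mul_assoc, show (rootSys rtOKD4).simple (ndD4 1) = rtD4 14 from rfl, this]; simp)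
  have k1 : w ∈ FF (stSys rtOKD4 K) ρ (Ac (rootSys rtOKD4) (ndD4 1)) := by
    obtain ⟨c, h0, h1⟩ := exists_sq_ne_one (K := K) (by
      rw [hK]; exact le_trans (by norm_num) (Nat.pow_le_pow_left hq 3))
    obtain ⟨g, a, b⟩ := tor h0
    have := h.kill (pos 21 (by omega)) (by rwa [← map_pow, Ne, map_eq_one_iff _ φ.injective]) (a _ _ (Or.inr (Or.inl ⟨rfl, rfl⟩))) b
      ((YY_mono ((h.stb_Xi topD4.π₀).orb_subset ⟨by rw [ip]; decide +kernel, Or.inl (pos 21 (by omega))⟩)).trans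
        (hw.xi_le_stab hL))
    refine h.mem_FF_Ac topD4.π₀ hw.mem.1 fun r hr e => FF_anti ((h.stb_orb _).orb_subset ?_) this
    rw [pos_iff_le] at hr
    rw [ip] at e
    change r = _ ∨ r = symD4.ρ _ ∨ r = symD4.ρ (symD4.ρ _)
    revert r; decide +kernel
  have k2 := hw.single_le_stab hL k1 (pos 22 (by omega))
  have k3 : w ∈ FF (stSys rtOKD4 K) ρ {rtD4 23} := FF_anti (by
    rintro _ rfl; exact ⟨pos 23 (by omega), by rw [ip]; decide +kernel⟩) hw.mem.1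
  by_cases k4 : w ∈ FF (stSys rtOKD4 K) ρ {rtD4 22}
  · exact df_pos ⟨k3, k4⟩ hw.notMem
  obtain rfl : q = 2 := by
    by_contra hc
    have := mt (FiniteField.forall_pow_eq_one_iff K (1 + q + q * q)).1 fun e => by
      have := Nat.le_of_dvd (by omega) e
      rw [hK] at this
      obtain ⟨p, rfl⟩ : ∃ p, q = p + 3 := ⟨q - 3, by omega⟩
      ring_nf at this; omega
    push Not at this
    obtain ⟨d, hd⟩ := this
    obtain ⟨g, a, b⟩ := tor d.ne_zero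
    refine k4 (orb_of_fixed f22 ▸ h.kill (pos 22 (by omega)) (fun e => hd (Units.ext ?_)) (a _ _ (Or.inr (Or.inr ⟨rfl, rfl⟩))) b
      (orb_of_fixed f22 ▸ k2))
    simp only [hφ] at e
    rw [Units.val_one, ← e]; push_cast; ring
  have cl : (rootSys rtOKD4).Closed (Ac _ (ndD4 1)) := StSys.closed_diff_simple (closed_acute _) (fun _ e => e.1) _
  have mA : ∀ r, r ∈ Ac (rootSys rtOKD4) (ndD4 1) ↔ r.1 ∈ [15, 16, 17, 19, 20, 21, 23] := by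
    simp only [Ac, Set.mem_sdiff, Set.mem_ofPred_eq, Set.mem_singleton_iff, pos_iff_le, ip]; decide +kernel
  obtain ⟨e1, e2⟩ := h.notMem_cm (a := ndD4 1) (b := ndD4 0) (c := ndD4 2) (d := ndD4 3) (ab := rtD4 19)
    (ac := rtD4 16) (ad := rtD4 15) (abc := rtD4 21) (abd := rtD4 20) (acd := rtD4 17) (abcd := rtD4 22)
    (Ψ := Ac _ (ndD4 1)) cl (fun _ e => e.1.1) (by decide +kernel) (by decide +kernel) (by decide +kernel)
    (by decide +kernel) (by decide +kernel) (by decide +kernel) (by decide +kernel) (pos 22 (by omega))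
    (by simp only [mA]; decide)
  have e3 : Ac (rootSys rtOKD4) (ndD4 1) ∪ {rtD4 22} = {r | 2 ≤ (rootSys rtOKD4).ht r} := Set.ext (by
    simp only [Set.mem_union, mA, Set.mem_singleton_iff, Set.mem_ofPred_eq, fitD4.ht]; decide +kernel)
  have hx := (twD4 φ).x_pos_fix piD4.2.1 (map_one φ)
  have hy := (twD4 φ).triple_pos_fix piD4.1 piD4.2.2.1 piD4.2.2.2 orthD4_02 orthD4_03 (frob3 hφ hK) 1
  simp only [map_one] at hy
  have hy' := mul_mem (mul_mem (x_mem_UU (stSys rtOKD4 K) (Ψ := orb symD4 (rtD4 18)) (r := (rootSys rtOKD4).simple (ndD4 0))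
    (Or.inl rfl) 1) (x_mem_UU _ (r := (rootSys rtOKD4).simple (ndD4 2)) (Or.inr (Or.inl (by decide +kernel))) 1))
    (x_mem_UU _ (r := (rootSys rtOKD4).simple (ndD4 3)) (Or.inr (Or.inr (by decide +kernel))) 1)
  obtain ⟨a, ha, b, hb, e⟩ := (twD4 φ).exists_mul_fix h.tw.sharp (e3 ▸ fun r hr => pos_iff_ht.2 (lt_of_lt_of_le two_pos hr))
    (e3 ▸ closed_ht two_pos) cl (orb_of_fixed f22 ▸ h.closed_orb subset_rfl)
    (Set.disjoint_singleton_right.2 (by rw [mA]; decide)) (h.stb_Ac topD4.π₀) (stb_single f22) e1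
    (mul_mem (mul_mem (mul_mem (inv_mem hx) (inv_mem hy)) hx) hy)
  let x : twistedD4 K 2 := ⟨_, h.mem_M_orb (x_mem_UU _ (mem_orb_self _ _) 1) hx⟩
  let y : twistedD4 K 2 := ⟨_, h.mem_M_orb hy' hy⟩
  let a' : twistedD4 K 2 := ⟨a, h.mem_M (fun _ e => e.1.1) ha.1 ha.2⟩
  let b' : twistedD4 K 2 := ⟨b, h.mem_M_orb (orb_of_fixed f22 ▸ hb.1) hb.2⟩
  have c1 := of_card_two (σ := ρ) (h.card_YY_single topD4 f14 (pos 14 (by omega))) (z := x) (StSys.x_mem_X _ _ _)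
    fun e => one_ne_zero (h.tw.sharp.x_eq_zero _ (congrArg Subtype.val e))
  have c2 := (of_card_two (σ := ρ) (h.card_YY_single topD4 f22 (pos 22 (by omega))) (z := b') hb.1
    fun e' => e2 (by rw [e, show b = 1 from congrArg Subtype.val e', mul_one]; exact ha.1)).2 w k2 k4
  have c3 : ∀ r, r = rtD4 22 ∨ r = rtD4 23 → y ∈ stab ρ (FF (stSys rtOKD4 K) ρ {r}) := fun r hr => stab_of_ip hL (by
    rintro s hs r rfl
    rw [ip]
    change s = _ ∨ s = _ ∨ s = _ at hs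
    revert s r; decide +kernel) hy'
  have c4 := c1.1 (ρ y w) (by
    rw [apply_conj, show y⁻¹ * x * y = x * (a' * b') from Subtype.ext (by
      change _ = _ * (a * b); rw [← e]; simp [cm, x, y, mul_assoc]), map_mul, map_mul, Module.End.mul_apply,
      Module.End.mul_apply, c2, map_neg, k1 a' ha.1, map_neg,
      c1.2 w (hw.single_le_stab hL k1 (pos 14 (by omega))) hw.notMem, neg_neg])
  obtain ⟨n, -, hn, ha⟩ := h.tw.exists_acts (symD4.sw_mem 1)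
  have s : ∀ a b : Fin 24, actT tSwD4 1 a = b → symD4.sw 1 (rtD4 a) = rtD4 b := fun a b e => Fin.ext ((swD4 _ _).trans e)
  exact (df_pos (W := FF _ ρ {rtD4 23} ⊓ FF _ ρ {rtD4 14}) ⟨(c3 _ (Or.inr rfl)).1 w k3, c4⟩ fun e =>
    k4 (by simpa using (c3 _ (Or.inl rfl)).2 _ e)).trans_le (df_le_of_acts hn (symD4.sw_mem 1).1 ha
      (s 23 23 (by decide +kernel)) (s 14 22 (by decide +kernel)) (s 22 14 (by decide +kernel)))

theorem finalD4 [ρ.IsIrreducible] (hV : 2 ≤ finrank ℂ V) : ev q [0, 1, 0, -1, 0, 1] ≤ finrank ℂ V := by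
  have h := ltD4 hφ hK
  have := (simpleD4 hφ hK).1
  exact le_of_arChk (E := [9, 8, 5, 4, 1, 0]) (E' := [4, 3, 0]) (a := 4) (n := 5) (r := 1) (C := 2) (by decide +kernel)
    h.two_le (h.main' (ρ := ρ) topD4 hV (γ := rtD4 22) (Fin.ext ((fitD4.s _ _).trans (by decide +kernel))) four_pos (Set.ext (by
      simp only [Set.mem_union, Set.mem_singleton_iff, Set.mem_ofPred_eq, fitD4.ht]; decide +kernel))
      (fun _ _ => df_posD4 hφ hK) (L := [0, 1, 9, 14, 22, 23].map rtD4) (by decide +kernel)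
      (show ∀ γ, _ ↔ symD4.ρ γ = γ by decide +kernel) (by rw [fitD4.ht]; decide +kernel)
      (by simp only [fitD4.ht]; decide +kernel))

end CfsgLib.MinDeg
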